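import Cfsg.Agent.Lyons.Chars.FiveCols
import Cfsg.Agent.Chars.Construct
import Cfsg.Agent.Blocks.CentralTwo

/-!
`E = C₅`: characters of `C` trivial on `O`.  Those with the given non-trivial sign on `W` have degree four and
multiplicity-free restriction to `⟨e⟩`.
-/

set_option autoImplicit false
set_option linter.unusedSectionVars false
set_option linter.style.haveILetI false

namespace Cfsg.Lib.Lyons

open Subgroup Cfsg.Lib.BenderSE.Ring2 Cfsg.Lib.Chars Cfsg.Lib.Blocks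
open scoped ComplexConjugate

universe u

/-- Five natural numbers of total `x`, `16 ∑ c² = 3 x² + 16`: then `x = 4` and all are at most one. -/
theorem mult_le_one (c : ZMod 5 → ℕ) (x : ℕ) (hx : ∑ b, c b = x) (hx0 : 0 < x)
    (h : 16 * ∑ b, c b * c b = 3 * (x * x) + 16) : x = 4 ∧ ∀ b, c b ≤ 1 := by
  have h4 : 4 ∣ x := by
    have h16 : 16 ∣ 3 * (x * x) := (Nat.dvd_add_left (dvd_refl 16)).1 (h ▸ dvd_mul_right _ _)
    have h2 : 16 ∣ x * x := (Nat.Coprime.dvd_mul_left (by norm_num)).1 h16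
    have h3 : 4 ^ 2 ∣ x ^ 2 := by rw [pow_two x]; simpa using h2
    exact (Nat.pow_dvd_pow_iff (by norm_num)).1 h3
  have hb : x ≤ 8 := by
    have hcs := sq_sum_le_card_mul_sum_sq (s := (Finset.univ : Finset (ZMod 5))) (f := c)
    simp only [hx, Finset.card_univ, ZMod.card, pow_two] at hcs
    by_contra hgt
    have h81 : 81 ≤ x * x := Nat.mul_le_mul (show 9 ≤ x by omega) (show 9 ≤ x by omega)
    omega
  obtain ⟨q, rfl⟩ := h4
  rcases (show q = 1 ∨ q = 2 by omega) with rfl | rfl <;> norm_num at hx h ⊢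
  · intro b
    have hle : ∀ i ∈ (Finset.univ : Finset (ZMod 5)), c i ≤ c i * c i := fun i _ => Nat.le_mul_self _
    have hbb := (Finset.sum_eq_sum_iff_of_le hle).1 (by omega) b (Finset.mem_univ b)
    rcases Nat.eq_zero_or_pos (c b) with h0 | h0
    · omega
    · exact ((Nat.mul_eq_left h0.ne').1 hbb.symm).le
  · have hle : ∀ n : ℕ, 3 * n ≤ n * n + 2 := fun n => by
      match n with
      | 0 | 1 | 2 => decide
      | n + 3 => nlinarith
    have hs := Finset.sum_le_sum (s := (Finset.univ : Finset (ZMod 5))) fun i _ => hle (c i)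
    rw [← Finset.mul_sum, Finset.sum_add_distrib, hx, Finset.sum_const, Finset.card_univ, ZMod.card] at hs
    simp only [smul_eq_mul] at hs
    omega

variable {G : Type u} [Group G] [Finite G]

namespace Frame

variable (F : Frame G)

/-- The second involution of `W`. -/
def z2 : G := F.f * F.z * F.f⁻¹

theorem z2_mem : F.z2 ∈ F.W := by simpa [Frame.z2] using F.conj_mem_W 1 F.z_mem_W

theorem z2_ne_one : F.z2 ≠ 1 := fun e => F.z_ne (by
  have e' := congrArg (fun x => F.f⁻¹ * x * F.f) e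
  simpa [Frame.z2, mul_assoc] using e')

theorem z2_ne_z : F.z2 ≠ F.z := F.f_moves

theorem z_mul_z2_ne : F.z * F.z2 ≠ 1 := fun e => F.z2_ne_z (by rw [eq_inv_of_mul_eq_one_right e, F.z_inv])

theorem W_cases {w : G} (hw : w ∈ F.W) : w = 1 ∨ w = F.z ∨ w = F.z2 ∨ w = F.z * F.z2 := by
  classical
  let T : Finset G := {1, F.z, F.z2, F.z * F.z2}
  have hTc : T.card = 4 := by
    simp only [T]
    rw [Finset.card_insert_of_notMem (by simp [F.z_ne.symm, F.z2_ne_one.symm, F.z_mul_z2_ne.symm]),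
      Finset.card_insert_of_notMem (by simp [F.z2_ne_z.symm, F.z2_ne_one]),
      Finset.card_insert_of_notMem (by simp [F.z_ne]), Finset.card_singleton]
  have hTW : (↑T : Set G) = (F.W : Set G) := Set.eq_of_subset_of_ncard_le (by
      intro x hx
      simp only [T, Finset.coe_insert, Finset.coe_singleton, Set.mem_insert_iff, Set.mem_singleton_iff] at hx
      rcases hx with rfl | rfl | rfl | rfl
      exacts [one_mem _, F.z_mem_W, F.z2_mem, mul_mem F.z_mem_W F.z2_mem])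
    (by rw [Set.ncard_coe_finset, hTc, ← Nat.card_coe_set_eq]; exact le_of_eq F.ufour.card_cen) (Set.toFinite _)
  have h : w ∈ T := Finset.mem_coe.1 (hTW ▸ hw)
  simpa [T] using h

/-- An element of `S` inside `C`. -/
def sC (s : ↥(F.S : Subgroup G)) : ↥F.C := ⟨s, F.sylow_le_C s.2⟩

/-- An element of `O` inside `C`. -/
def oC (u : ↥F.O) : ↥F.C := ⟨u, F.O_le_C u.2⟩

/-- Trivial on `O`. -/
def Inflated (f : ↥F.C → ℂ) : Prop := ∀ (c : ↥F.C) (u : ↥F.O), f (c * F.oC u) = f c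

/-- The elements `1, z, z2, z z2` inside `C`. -/
def zC : ↥F.C := F.sC ⟨F.z, F.z_mem_S⟩

/-- The second involution inside `C`. -/
def z2C : ↥F.C := F.sC ⟨F.z2, F.z2_mem.1⟩

/-- The sign pattern `z ↦ -1`, `z2 ↦ 1`. -/
def InLam (f : ↥F.C → ℂ) : Prop := f F.zC = -f 1 ∧ f F.z2C = f 1

end Frame

namespace Frame.Five

variable {F : Frame G} (E : F.Five)
include E

/-- A power of `e` inside `C`. -/
def eC (k : ZMod 5) : ↥F.C := ⟨E.e ^ k.val, pow_mem E.e_mem _⟩

theorem eC_zero : E.eC 0 = 1 := Subtype.ext (by simp [Frame.Five.eC])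

/-- The Fourier coefficients on `⟨e⟩`. -/
noncomputable def four (f : ↥F.C → ℂ) (b : ZMod 5) : ℂ := 5⁻¹ * ∑ k : ZMod 5, ev (-(b * k)) * f (E.eC k)

theorem sum_four (f : ↥F.C → ℂ) : ∑ b, E.four f b = f 1 := by
  simp only [Frame.Five.four, ← Finset.mul_sum]
  rw [Finset.sum_comm, Finset.sum_congr rfl (g := fun k : ZMod 5 => if k = 0 then 5 * f (E.eC k) else 0),
    Finset.sum_ite_eq', if_pos (Finset.mem_univ _), E.eC_zero]
  · ring
  · intro k _
    rw [← Finset.sum_mul, show (∑ b : ZMod 5, ev (-(b * k))) = ∑ b : ZMod 5, ev (b * -k) from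
      Finset.sum_congr rfl fun b _ => by rw [mul_neg], ev_sum]
    simp only [neg_eq_zero]
    split_ifs <;> ring

theorem sum_four_sq (f : ↥F.C → ℂ) :
    ∑ b, E.four f b * conj (E.four f b) = 5⁻¹ * ∑ k, f (E.eC k) * conj (f (E.eC k)) := by
  simp only [Frame.Five.four, map_mul, map_sum, map_inv₀, map_ofNat, ev_conj, Finset.mul_sum, Finset.sum_mul]
  rw [Finset.sum_comm]
  refine Finset.sum_congr rfl fun j _ => ?_
  rw [Finset.sum_comm, Finset.sum_congr rfl (g := fun i : ZMod 5 =>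
    5⁻¹ * 5⁻¹ * (f (E.eC i) * conj (f (E.eC j))) * if j - i = 0 then 5 else 0)]
  · simp only [sub_eq_zero, mul_ite, mul_zero, Finset.sum_ite_eq, Finset.mem_univ, if_true]
    ring
  · intro i _
    rw [← ev_sum (j - i), Finset.mul_sum]
    refine Finset.sum_congr rfl fun b _ => ?_
    rw [show b * (j - i) = -(b * i) + (- -(b * j)) by ring, ev_add]
    ring

/-- Sums over `C`. -/
theorem sum_C [Fintype F.C] [Fintype ↥(F.S : Subgroup G)] {f : ↥F.C → ℂ} (hf : F.Inflated f) :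
    ∑ c, f c = (Nat.card F.O : ℂ) * ∑ s : ↥(F.S : Subgroup G), ∑ k, f (F.sC s * E.eC k) := by
  classical
  letI := Fintype.ofFinite F.O
  rw [← Fintype.sum_bijective E.coord E.coord_bijective (fun q => f (E.coord q)) _ (fun _ => rfl),
    Fintype.sum_prod_type, Finset.mul_sum]
  refine Finset.sum_congr rfl fun s _ => ?_
  rw [Fintype.sum_prod_type, Finset.mul_sum]
  refine Finset.sum_congr rfl fun k _ => ?_
  rw [Finset.sum_congr rfl (g := fun _ => f (F.sC s * E.eC k)) fun u _ => ?_, Finset.sum_const, Finset.card_univ,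
    nsmul_eq_mul, Nat.card_eq_fintype_card]
  exact (congrArg f (Subtype.ext rfl)).trans (hf (F.sC s * E.eC k) u)

/-- Off `S O` the coset `S e^k` is sixteen times `W e^k`. -/
theorem sum_twist [Fintype ↥(F.S : Subgroup G)] [Fintype F.W] {f : ↥F.C → ℂ} (hf : IsClassFunction F.C f)
    {k : ZMod 5} (hk : k ≠ 0) :
    ∑ s : ↥(F.S : Subgroup G), f (F.sC s * E.eC k) =
      16 * ∑ w : F.W, f (F.sC ⟨w, w.2.1⟩ * E.eC k) := by
  classical
  set g := E.e ^ k.val with hg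
  have hk5 : ¬ 5 ∣ k.val := fun h => hk ((ZMod.val_eq_zero k).1 (Nat.eq_zero_of_dvd_of_lt h k.val_lt))
  let Φ : ↥(F.S : Subgroup G) × F.W → ↥(F.S : Subgroup G) := fun q =>
    ⟨(q.2 : G) * q.1 * (g * (q.1 : G)⁻¹ * g⁻¹), mul_mem (mul_mem q.2.2.1 q.1.2)
      ((mem_normalizer_iff.1 (pow_mem E.e_norm k.val) _).1 (inv_mem q.1.2))⟩
  have hval : ∀ q, f (F.sC (Φ q) * E.eC k) = f (F.sC ⟨q.2, q.2.2.1⟩ * E.eC k) := by
    intro q
    rw [← hf (F.sC ⟨q.2, q.2.2.1⟩ * E.eC k) (F.sC q.1)]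
    refine congrArg f (Subtype.ext ?_)
    show (q.2 : G) * q.1 * (g * (q.1 : G)⁻¹ * g⁻¹) * g = (q.1 : G) * ((q.2 : G) * g) * (q.1 : G)⁻¹
    rw [← mul_assoc (q.1 : G), cenOf_comm q.2.2 q.1.2]
    group
  have hfib : ∀ q₀, (Finset.univ.filter fun q => Φ q = Φ q₀).card = 4 := by
    intro q₀
    rw [← show Nat.card F.W = 4 from F.ufour.card_cen, Nat.card_eq_fintype_card, ← Finset.card_univ]
    symm
    refine Finset.card_bij (fun v _ => ((⟨(q₀.1 : G) * v, mul_mem q₀.1.2 v.2.1⟩ : ↥(F.S : Subgroup G)), q₀.2))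
      (fun v _ => ?_) (fun v _ v' _ h => Subtype.ext (mul_left_cancel (congrArg Subtype.val (congrArg Prod.fst h))))
      fun q hq => ?_
    · refine Finset.mem_filter.2 ⟨Finset.mem_univ _, Subtype.ext ?_⟩
      show (q₀.2 : G) * ((q₀.1 : G) * v) * (g * ((q₀.1 : G) * v)⁻¹ * g⁻¹) = (q₀.2 : G) * q₀.1 * (g * (q₀.1 : G)⁻¹ * g⁻¹)
      have hgv : g * (v : G)⁻¹ = (v : G)⁻¹ * g :=
        ((show Commute E.e (v : G) from E.e_cen _ v.2).pow_left k.val).inv_right.eq
      rw [mul_inv_rev, ← mul_assoc g, hgv]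
      group
    · have he : (q.2 : G) * q.1 * (g * (q.1 : G)⁻¹ * g⁻¹) = (q₀.2 : G) * q₀.1 * (g * (q₀.1 : G)⁻¹ * g⁻¹) :=
        congrArg Subtype.val (Finset.mem_filter.1 hq).2
      set v := (q₀.1 : G)⁻¹ * q.1 with hv
      have hvS : v ∈ (F.S : Subgroup G) := mul_mem (inv_mem q₀.1.2) q.1.2
      have hw : (q₀.2 : G)⁻¹ * q.2 ∈ F.W := mul_mem (inv_mem q₀.2.2) q.2.2
      have hfix : g * v * g⁻¹ * v⁻¹ ∈ F.W := by
        have e1 : g * v * g⁻¹ = ((q₀.2 : G) * q₀.1)⁻¹ * ((q.2 : G) * q.1) := by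
          calc g * v * g⁻¹ = ((q₀.2 : G) * q₀.1)⁻¹ * ((q₀.2 : G) * q₀.1 * (g * (q₀.1 : G)⁻¹ * g⁻¹)) *
                (g * q.1 * g⁻¹) := by rw [hv]; group
            _ = _ := by rw [← he]; group
        rw [e1, hv, show ((q₀.2 : G) * q₀.1)⁻¹ * ((q.2 : G) * q.1) * ((q₀.1 : G)⁻¹ * q.1)⁻¹ =
          (q₀.1 : G)⁻¹ * ((q₀.2 : G)⁻¹ * q.2) * q₀.1 by group, mul_assoc, ← cenOf_comm hw q₀.1.2,
          inv_mul_cancel_left]
        exact hw
      have hvW : v ∈ F.W := E.fpf hk5 hvS hfix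
      refine ⟨⟨v, hvW⟩, Finset.mem_univ _, Prod.ext (Subtype.ext (mul_inv_cancel_left _ _)) (Subtype.ext ?_)⟩
      have hgv : g * v⁻¹ = v⁻¹ * g :=
        ((show Commute E.e v from E.e_cen _ hvW).pow_left k.val).inv_right.eq
      rw [show (q.1 : G) = q₀.1 * v from (mul_inv_cancel_left _ _).symm, mul_inv_rev, ← mul_assoc g, hgv] at he
      have : (q.2 : G) * q₀.1 * (g * (q₀.1 : G)⁻¹ * g⁻¹) = (q₀.2 : G) * q₀.1 * (g * (q₀.1 : G)⁻¹ * g⁻¹) := by
        rw [← he]; group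
      exact (mul_right_cancel (mul_right_cancel this)).symm
  have himg : Finset.univ.image Φ = Finset.univ := by
    refine Finset.eq_univ_of_card _ ?_
    have h := Finset.card_eq_sum_card_image Φ Finset.univ
    rw [Finset.sum_congr rfl (g := fun _ => 4) fun y hy => by
        obtain ⟨q₀, -, rfl⟩ := Finset.mem_image.1 hy
        exact hfib q₀,
      Finset.sum_const, Finset.card_univ, Fintype.card_prod, smul_eq_mul,
      ← Nat.card_eq_fintype_card (α := F.W), show Nat.card F.W = 4 from F.ufour.card_cen] at h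
    omega
  have hsum := Finset.sum_fiberwise_of_maps_to (s := Finset.univ) (t := Finset.univ.image Φ) (g := Φ)
    (fun q _ => Finset.mem_image_of_mem Φ (Finset.mem_univ q)) (fun q => f (F.sC (Φ q) * E.eC k))
  rw [himg, Finset.sum_congr rfl (g := fun s => (4 : ℂ) * f (F.sC s * E.eC k)) fun s _ => ?_, ← Finset.mul_sum,
    Finset.sum_congr rfl fun q _ => hval q, Fintype.sum_prod_type] at hsum
  · refine mul_left_cancel₀ (show (4 : ℂ) ≠ 0 by norm_num) (hsum.trans ?_)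
    rw [← mul_assoc, Finset.mul_sum, Finset.sum_comm]
    refine Finset.sum_congr rfl fun w _ => ?_
    refine Eq.trans (Finset.sum_const (f (F.sC ⟨w, w.2.1⟩ * E.eC k))) ?_
    rw [Finset.card_univ, nsmul_eq_mul, ← Nat.card_eq_fintype_card, F.ufour.card_all]
    norm_num
  · obtain ⟨q₀, -, rfl⟩ := Finset.mem_image.1 (himg.symm ▸ Finset.mem_univ s)
    rw [Finset.sum_congr rfl (g := fun _ => f (F.sC (Φ q₀) * E.eC k)) fun q hq => by
      rw [(Finset.mem_filter.1 hq).2], Finset.sum_const, hfib, nsmul_eq_mul]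
    norm_num

/-- The coefficients of an inflated character are natural numbers. -/
theorem exists_nat_four {f : ↥F.C → ℂ} (hc : IsCharacter F.C f) (hf : F.Inflated f) (b : ZMod 5) :
    ∃ n : ℕ, E.four f b = n := by
  classical
  letI := Fintype.ofFinite F.O
  letI := Fintype.ofFinite E.pre.K
  obtain ⟨n, hn⟩ := IsCharacter.exists_mult (IsCharacter.comp_hom hc (Subgroup.inclusion E.pre.K_le_C))
    (isIrrCharacter_linear (E.lin b))
  refine ⟨n, ?_⟩
  rw [← hn, classInner_def, ← Fintype.sum_bijective E.kcoord E.kcoord_bijective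
    (fun q => f (Subgroup.inclusion E.pre.K_le_C (E.kcoord q)) * conj ((E.lin b (E.kcoord q) : ℂˣ) : ℂ)) _
      (fun _ => rfl),
    ← Nat.card_eq_of_bijective E.kcoord E.kcoord_bijective, Nat.card_prod, Nat.card_zmod, Fintype.sum_prod_type,
    Frame.Five.four, Finset.mul_sum, Finset.mul_sum]
  refine Finset.sum_congr rfl fun k _ => ?_
  rw [Finset.sum_congr rfl (g := fun _ => f (E.eC k) * ev (-(b * k))) fun (u : F.O) _ => ?_, Finset.sum_const,
    Finset.card_univ, nsmul_eq_mul, ← Nat.card_eq_fintype_card]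
  · have h0 : (Nat.card F.O : ℂ) ≠ 0 := Nat.cast_ne_zero.2 Nat.card_pos.ne'
    push_cast
    field_simp
  · show f _ * conj (ev (b * E.idx (E.kcoord (k, u)))) = _
    rw [E.idx_kcoord, ev_conj,
      show Subgroup.inclusion E.pre.K_le_C (E.kcoord (k, u)) = E.eC k * F.oC u from Subtype.ext rfl, hf]

/-- `W` is central modulo `O`, and acts by signs. -/
theorem exists_sign (ψ : IrrCharacter F.C) (hψ : F.Inflated (ψ : F.C → ℂ)) {w : G} (hw : w ∈ F.W) :
    ∃ σ : ℤ, (σ = 1 ∨ σ = -1) ∧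
      ∀ c : F.C, (ψ : F.C → ℂ) (⟨w, F.sylow_le_C hw.1⟩ * c) = (σ : ℂ) * (ψ : F.C → ℂ) c := by
  classical
  letI := Fintype.ofFinite F.C
  letI := Fintype.ofFinite G
  haveI : (F.O.subgroupOf F.C).Normal := (normal_subgroupOf_iff_le_normalizer F.O_le_C).2 E.pre.C_norm_O
  obtain ⟨φ, hφ⟩ := exists_inflate_eq (F.O.subgroupOf F.C) (ψ := ψ) fun v hv => by
    have h := hψ 1 ⟨v, mem_subgroupOf.1 hv⟩
    rwa [one_mul] at h
  set π := QuotientGroup.mk' (F.O.subgroupOf F.C)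
  set wC : F.C := ⟨w, F.sylow_le_C hw.1⟩
  have hcen : π wC ∈ Subgroup.center (↥F.C ⧸ F.O.subgroupOf F.C) := by
    refine Subgroup.mem_center_iff.2 fun q => ?_
    obtain ⟨c, rfl⟩ := QuotientGroup.mk'_surjective _ q
    rw [← map_mul, ← map_mul, QuotientGroup.mk'_eq_mk']
    refine ⟨(c * wC)⁻¹ * (wC * c), mem_subgroupOf.2 ?_, mul_inv_cancel_left _ _⟩
    show ((c : G) * w)⁻¹ * (w * (c : G)) ∈ F.O
    obtain ⟨s, hs, k, u, hu, hc⟩ := E.pre.cover' c.2
    have h1 : w⁻¹ * u⁻¹ * w⁻¹⁻¹ * u ∈ F.O :=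
      mul_mem (F.conj_mem_O (inv_mem (F.sylow_le_C hw.1)) (inv_mem hu)) hu
    refine (show ((c : G) * w)⁻¹ * (w * (c : G)) = _ from ?_) ▸ h1
    have hws : w * s = s * w := (cenOf_comm hw hs).symm
    have hwg : w * E.pre.e ^ k = E.pre.e ^ k * w := (E.pre.pow_cen k hw).symm
    rw [hc]
    calc (s * E.pre.e ^ k * u * w)⁻¹ * (w * (s * E.pre.e ^ k * u))
        = w⁻¹ * u⁻¹ * ((E.pre.e ^ k)⁻¹ * (s⁻¹ * (w * s)) * E.pre.e ^ k) * u := by group
      _ = w⁻¹ * u⁻¹ * ((E.pre.e ^ k)⁻¹ * (w * E.pre.e ^ k)) * u := by rw [hws, inv_mul_cancel_left]; group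
      _ = _ := by rw [hwg]; group
  obtain ⟨σ, hσ, -, hσc⟩ := apply_central_sign φ hcen (by
    rw [← map_mul, show wC * wC = 1 from Subtype.ext (F.ufour.sq_one hw), map_one])
  refine ⟨σ, hσ, fun c => ?_⟩
  rw [← hφ, inflate_val, inflate_val]
  exact hσc (π c)

/-- The projection on that sign pattern. -/
theorem proj_lam (ψ : IrrCharacter F.C) (hψ : F.Inflated (ψ : F.C → ℂ)) (c : F.C)
    [Decidable (F.InLam (ψ : F.C → ℂ))] :
    (4 : ℂ)⁻¹ * ((ψ : F.C → ℂ) c - (ψ : F.C → ℂ) (F.zC * c) + (ψ : F.C → ℂ) (F.z2C * c) -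
      (ψ : F.C → ℂ) (F.zC * F.z2C * c)) = if F.InLam (ψ : F.C → ℂ) then (ψ : F.C → ℂ) c else 0 := by
  obtain ⟨σ, hσ, h1⟩ := E.exists_sign ψ hψ F.z_mem_W
  obtain ⟨τ, hτ, h2⟩ := E.exists_sign ψ hψ F.z2_mem
  have hz : ∀ d, (ψ : F.C → ℂ) (F.zC * d) = (σ : ℂ) * (ψ : F.C → ℂ) d := h1
  have hz2 : ∀ d, (ψ : F.C → ℂ) (F.z2C * d) = (τ : ℂ) * (ψ : F.C → ℂ) d := h2
  have h0 : (ψ : F.C → ℂ) 1 ≠ 0 := IsIrrCharacter.apply_one_ne_zero ψ.2
  have hiff : F.InLam (ψ : F.C → ℂ) ↔ σ = -1 ∧ τ = 1 := by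
    have e1 := hz 1
    have e2 := hz2 1
    rw [mul_one] at e1 e2
    rw [Frame.InLam, e1, e2]
    constructor
    · rintro ⟨a, b⟩
      have a' : (σ : ℂ) = ((-1 : ℤ) : ℂ) := by push_cast; exact mul_right_cancel₀ h0 (by rw [a]; ring)
      have b' : (τ : ℂ) = ((1 : ℤ) : ℂ) := by push_cast; exact mul_right_cancel₀ h0 (by rw [b]; ring)
      exact ⟨Int.cast_injective a', Int.cast_injective b'⟩
    · rintro ⟨rfl, rfl⟩
      push_cast
      exact ⟨by ring, by ring⟩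
  rw [mul_assoc F.zC, hz, hz, hz2]
  rcases hσ with rfl | rfl <;> rcases hτ with rfl | rfl <;> simp [hiff] <;> push_cast <;> ring

/-- Degree four, multiplicity free on `⟨e⟩`. -/
theorem four_lam [Fintype F.C] (ψ : IrrCharacter F.C) (hψ : F.Inflated (ψ : F.C → ℂ))
    (hlam : F.InLam (ψ : F.C → ℂ)) :
    ∃ c : ZMod 5 → ℕ, (∀ b, c b ≤ 1) ∧ (∀ b, E.four (ψ : F.C → ℂ) b = c b) ∧
      (ψ : F.C → ℂ) 1 = 4 ∧ ∑ b, c b = 4 := by
  classical
  letI := Fintype.ofFinite ↥(F.S : Subgroup G)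
  letI := Fintype.ofFinite F.W
  set f : F.C → ℂ := (ψ : F.C → ℂ) with hf
  choose c hc using E.exists_nat_four (isCharacter_of_irr ψ.2) hψ
  have hc : ∀ b, E.four f b = c b := hc
  set x := deg f
  have hfx : f 1 = (x : ℂ) := irr_apply_one_eq_deg ψ
  -- the signs
  have hsign : ∀ w : G, ∀ hw : w ∈ F.W, ∃ σ : ℤ, (σ = 1 ∨ σ = -1) ∧
      ∀ d : F.C, f (⟨w, F.sylow_le_C hw.1⟩ * d) = (σ : ℂ) * f d := fun w hw => E.exists_sign ψ hψ hw
  -- it vanishes on `S \ W`
  have hvan : ∀ s : ↥(F.S : Subgroup G), (s : G) ∉ F.W → f (F.sC s) = 0 := by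
    intro s hs
    obtain ⟨σ, hσ, hz⟩ := hsign F.z F.z_mem_W
    have hσ1 : (σ : ℂ) = -1 := by
      have e1 := hz 1
      rw [mul_one] at e1
      have h0 : f 1 ≠ 0 := IsIrrCharacter.apply_one_ne_zero ψ.2
      refine mul_right_cancel₀ h0 ?_
      rw [← e1, neg_one_mul]
      exact hlam.1
    obtain ⟨t, ht, hts⟩ := F.ufour.exists_comm s.2 hs F.z_mem
    have h1 := isClassFunction_irr ψ (F.sC s) (F.sC ⟨t, ht⟩)
    have h2 : F.sC ⟨t, ht⟩ * F.sC s * (F.sC ⟨t, ht⟩)⁻¹ = ⟨F.z, F.sylow_le_C F.z_mem_S⟩ * F.sC s :=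
      Subtype.ext hts
    rw [h2] at h1
    rw [← hf, hz, hσ1, neg_one_mul] at h1
    exact neg_eq_self.1 h1
  have hnsq : ∀ (w : G) (hw : w ∈ F.W) (d : F.C),
      f (⟨w, F.sylow_le_C hw.1⟩ * d) * conj (f (⟨w, F.sylow_le_C hw.1⟩ * d)) = f d * conj (f d) := by
    intro w hw d
    obtain ⟨σ, hσ, h⟩ := hsign w hw
    rw [h, map_mul, map_intCast]
    rcases hσ with rfl | rfl <;> push_cast <;> ring
  -- the norm
  set g : F.C → ℂ := fun d => f d * conj (f d) with hg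
  have hgc : IsClassFunction F.C g := fun a h => by rw [hg]; simp only [isClassFunction_irr ψ a h, hf]
  have hgi : F.Inflated g := fun d u => by
    show f _ * conj (f _) = f d * conj (f d)
    rw [hψ d u]
  have hS : ∑ s : ↥(F.S : Subgroup G), g (F.sC s * E.eC 0) = 4 * (x : ℂ) ^ 2 := by
    rw [E.eC_zero, ← Finset.sum_filter_add_sum_filter_not Finset.univ (fun s : ↥(F.S : Subgroup G) => (s : G) ∈ F.W),
      Finset.sum_congr rfl (g := fun _ => (x : ℂ) ^ 2) fun s hs => ?_,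
      Finset.sum_eq_zero (s := Finset.univ.filter fun s : ↥(F.S : Subgroup G) => ¬ (s : G) ∈ F.W) fun s hs => ?_,
      Finset.sum_const, add_zero, nsmul_eq_mul]
    · congr 1
      rw [show (4 : ℂ) = ((Nat.card F.W : ℕ) : ℂ) by rw [show Nat.card F.W = 4 from F.ufour.card_cen]; norm_num,
        ← Fintype.card_subtype, ← Nat.card_eq_fintype_card]
      exact congrArg _ (Nat.card_congr
        { toFun := fun s => ⟨s.1, s.2⟩
          invFun := fun w => ⟨⟨w, w.2.1⟩, w.2⟩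
          left_inv := fun _ => rfl
          right_inv := fun _ => rfl })
    · rw [mul_one]
      show f (F.sC s) * conj (f (F.sC s)) = _
      rw [hvan s (Finset.mem_filter.1 hs).2, zero_mul]
    · rw [mul_one]
      have h := hnsq s.1 (Finset.mem_filter.1 hs).2 1
      rw [mul_one] at h
      show f (F.sC s) * conj (f (F.sC s)) = _
      rw [show F.sC s = ⟨s.1, F.sylow_le_C (Finset.mem_filter.1 hs).2.1⟩ from rfl, h, hfx, Complex.conj_natCast,
        pow_two]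
  have hK : ∀ k : ZMod 5, k ≠ 0 → ∑ s : ↥(F.S : Subgroup G), g (F.sC s * E.eC k) = 64 * g (E.eC k) := by
    intro k hk
    rw [E.sum_twist hgc hk, Finset.sum_congr rfl (g := fun _ => g (E.eC k)) fun w _ => hnsq w.1 w.2 (E.eC k),
      Finset.sum_const, Finset.card_univ, nsmul_eq_mul, ← Nat.card_eq_fintype_card,
      show Nat.card F.W = 4 from F.ufour.card_cen]
    push_cast
    ring
  have hnorm : (320 : ℂ) = 4 * (x : ℂ) ^ 2 + 64 * (∑ k, g (E.eC k) - (x : ℂ) ^ 2) := by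
    have h1 := classInner_irr_self ψ
    rw [classInner_def, inv_mul_eq_one₀ (Nat.cast_ne_zero.2 Nat.card_pos.ne')] at h1
    rw [← Nat.card_eq_of_bijective E.coord E.coord_bijective, Nat.card_prod, Nat.card_prod, Nat.card_zmod,
      F.ufour.card_all, show (∑ d, (ψ : F.C → ℂ) d * conj ((ψ : F.C → ℂ) d)) = ∑ d, g d from rfl, E.sum_C hgi,
      Finset.sum_comm, ← Finset.add_sum_erase _ _ (Finset.mem_univ (0 : ZMod 5)), hS,
      Finset.sum_congr rfl fun k hk => hK k (Finset.ne_of_mem_erase hk), ← Finset.mul_sum] at h1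
    have h3 : g (E.eC 0) = (x : ℂ) ^ 2 := by
      rw [E.eC_zero, hg]; simp only [hfx, Complex.conj_natCast, pow_two]
    rw [← Finset.add_sum_erase _ _ (Finset.mem_univ (0 : ZMod 5)), h3, add_sub_cancel_left]
    refine mul_left_cancel₀ (Nat.cast_ne_zero.2 (Nat.card_pos (α := F.O)).ne' : (Nat.card F.O : ℂ) ≠ 0) (Eq.trans ?_ h1)
    push_cast
    ring
  have hsum : ∑ b, c b = x := by
    have h := E.sum_four f
    simp only [hc, hfx] at h
    exact_mod_cast h
  have hsq : 16 * ∑ b, c b * c b = 3 * (x * x) + 16 := by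
    have h := E.sum_four_sq f
    simp only [hc, Complex.conj_natCast] at h
    apply Nat.cast_injective (R := ℂ)
    push_cast
    rw [h]
    linear_combination -(1 / 20 : ℂ) * hnorm
  obtain ⟨h4, hle⟩ := mult_le_one c x hsum (deg_irr_pos ψ) hsq
  exact ⟨c, hle, hc, by rw [hfx, h4]; norm_num, hsum.trans h4⟩

end Frame.Five

end Cfsg.Lib.Lyons
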