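import Cfsg.Agent.Blocks.Columns
import Cfsg.Agent.Blocks.PrincipalColumn
import Cfsg.Agent.Blocks.ConstrainedInvolution
import Cfsg.Agent.Blocks.ThreeChars.Coset
import Cfsg.Agent.Blocks.ThreeChars.Fusion

/-!
Principal-block columns at a `p`-section whose centraliser is constrained modulo a normal `p'`-subgroup.
-/

set_option autoImplicit false
set_option linter.unusedSectionVars false
set_option linter.style.haveILetI false

namespace Cfsg.Lib.Lyons

open Cfsg.Lib.Chars Cfsg.Lib.Blocks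
open scoped ComplexConjugate

universe u

variable {G : Type u} [Group G] [Fintype G] {p : ℕ} {M : Ideal AlgInt}

/-- Second orthogonality as a count of conjugating elements. -/
theorem orth_count [DecidableEq G] (c w : G) :
    ∑ χ : IrrCharacter G, (χ : G → ℂ) c * conj ((χ : G → ℂ) w) =
      ((Finset.univ.filter fun h : G => h * w * h⁻¹ = c).card : ℂ) := by
  classical
  rw [second_orthogonality]
  split_ifs with hconj
  · obtain ⟨g, hg⟩ := isConj_iff.1 hconj
    congr 1
    rw [← Fintype.card_subtype, ← Nat.card_eq_fintype_card]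
    refine Nat.card_congr
      { toFun := fun a => ⟨a.1 * g⁻¹, ?_⟩
        invFun := fun h => ⟨h.1 * g, Subgroup.mem_centralizer_singleton_iff.2 ?_⟩
        left_inv := fun a => Subtype.ext (inv_mul_cancel_right _ _)
        right_inv := fun h => Subtype.ext (mul_inv_cancel_right _ _) }
    · have ha := Subgroup.mem_centralizer_singleton_iff.1 a.2
      calc a.1 * g⁻¹ * w * (a.1 * g⁻¹)⁻¹ = a.1 * (g⁻¹ * w * g) * a.1⁻¹ := by group
        _ = a.1 * c * a.1⁻¹ := by rw [← hg]; group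
        _ = c := mul_inv_eq_iff_eq_mul.2 ha
    · apply mul_inv_eq_iff_eq_mul.1
      calc h.1 * g * c * (h.1 * g)⁻¹ = h.1 * (g * c * g⁻¹) * h.1⁻¹ := by group
        _ = c := by rw [hg, h.2]
  · rw [Finset.filter_false_of_mem, Finset.card_empty, Nat.cast_zero]
    exact fun h _ hh => hconj (isConj_iff.2 ⟨h⁻¹, by rw [← hh]; group⟩)

theorem exists_inflate_eq (K : Subgroup G) [K.Normal] {ψ : IrrCharacter G}
    (h : ∀ k ∈ K, (ψ : G → ℂ) k = (ψ : G → ℂ) 1) : ∃ φ : IrrCharacter (G ⧸ K), inflate K φ = ψ := by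
  have hsurj : Function.Surjective (QuotientGroup.mk' K) := QuotientGroup.mk'_surjective K
  obtain ⟨f, hf, hfψ⟩ := exists_factor _ hsurj (isCharacter_of_irr ψ.2)
    (fun k hk => h k (by rwa [QuotientGroup.ker_mk'] at hk))
  exact ⟨⟨f, IsIrrCharacter.descend hf _ hsurj (hfψ ▸ ψ.2)⟩, Subtype.ext hfψ.symm⟩

/-- Every character trivial on `N` lies in the principal block of `H`. -/
def Full (M : Ideal AlgInt) (H N : Subgroup G) [Fintype H] : Prop :=
  ∀ ψ : IrrCharacter H, (∀ v ∈ N.subgroupOf H, (ψ : H → ℂ) v = (ψ : H → ℂ) 1) → ψ ∈ principalBlock M H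

theorem full_of_constrained (hM : IsPModular p M) (H N : Subgroup G) [Fintype H] (hNH : N ≤ H)
    (hn : H ≤ Subgroup.normalizer (N : Set G)) (hN : ¬ p ∣ Nat.card N) (Q : Subgroup G) (hQH : Q ≤ H)
    (hQn : ∀ h ∈ H, ∀ q ∈ Q, h * q * h⁻¹ ∈ Q) (hQp : ∀ q ∈ Q, ∃ k : ℕ, q ^ p ^ k ∈ N)
    (hQc : ∀ h ∈ H, (∀ q ∈ Q, h * q * h⁻¹ * q⁻¹ ∈ N) → h ∈ Q) : Full M H N := by
  classical
  haveI := Fact.mk hM.1
  intro ψ hψ
  haveI : (N.subgroupOf H).Normal := (Subgroup.normal_subgroupOf_iff_le_normalizer hNH).2 hn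
  haveI : (Q.subgroupOf H).Normal := ⟨fun q hq g => hQn g g.2 q hq⟩
  letI := Fintype.ofFinite (H ⧸ N.subgroupOf H)
  set π := QuotientGroup.mk' (N.subgroupOf H)
  set Qb := (Q.subgroupOf H).map π
  haveI : Qb.Normal := Subgroup.Normal.map inferInstance π (QuotientGroup.mk'_surjective _)
  have hQb : IsPGroup p Qb := by
    rintro ⟨_, q, hq, rfl⟩
    obtain ⟨k, hk⟩ := hQp q hq
    refine ⟨k, Subtype.ext ?_⟩
    show π q ^ p ^ k = 1
    rw [← map_pow]
    exact (QuotientGroup.eq_one_iff _).2 (Subgroup.mem_subgroupOf.2 (by rwa [SubgroupClass.coe_pow]))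
  have hC : Subgroup.centralizer (Qb : Set (H ⧸ N.subgroupOf H)) ≤ Qb := by
    intro c hc
    obtain ⟨h, rfl⟩ := QuotientGroup.mk'_surjective _ c
    refine ⟨h, Subgroup.mem_subgroupOf.2 (hQc h h.2 fun q hq => ?_), rfl⟩
    have h1 := hc (π ⟨q, hQH hq⟩) ⟨⟨q, hQH hq⟩, Subgroup.mem_subgroupOf.2 hq, rfl⟩
    have h2 : π (h * ⟨q, hQH hq⟩ * h⁻¹ * (⟨q, hQH hq⟩ : H)⁻¹) = 1 := by
      rw [map_mul, map_mul, map_mul, ← h1, map_inv, map_inv, mul_inv_cancel_right, mul_inv_cancel]
    exact Subgroup.mem_subgroupOf.1 ((QuotientGroup.eq_one_iff _).1 h2)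
  rw [← image_inflate_principal hM (N.subgroupOf H) (by
    rwa [Nat.card_congr (Subgroup.subgroupOfEquivOfLe hNH).toEquiv])]
  obtain ⟨φ, hφ⟩ := exists_inflate_eq (N.subgroupOf H) hψ
  exact ⟨φ, mem_principalBlock_of_normal_constrained hM hQb hC φ, hφ⟩

variable {x : G} {H : Subgroup G} [Fintype H]

theorem regular_mul (hp : p.Prime) {N : Subgroup G} (hn : H ≤ Subgroup.normalizer (N : Set G))
    (hN : ¬ p ∣ Nat.card N) {y v : G} (hy : y ∈ H) (hv : v ∈ N) (hyr : ¬ p ∣ orderOf y) :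
    ¬ p ∣ orderOf (y * v) := by
  have hi : ∀ i : ℕ, ∃ v' ∈ N, (y * v) ^ i = y ^ i * v' := by
    intro i
    induction i with
    | zero => exact ⟨1, one_mem _, by simp⟩
    | succ i ih =>
      obtain ⟨v', hv', hi⟩ := ih
      refine ⟨(y⁻¹ * v' * y) * v, mul_mem ((Subgroup.mem_normalizer_iff''.1 (hn hy) v').1 hv') hv, ?_⟩
      rw [pow_succ, hi, pow_succ]; group
  obtain ⟨v', hv', he⟩ := hi (orderOf y)
  rw [pow_orderOf_eq_one, one_mul] at he
  intro hd
  have h2 : (y * v) ^ (orderOf y * orderOf v') = 1 := by rw [pow_mul, he, pow_orderOf_eq_one]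
  rcases hp.dvd_mul.1 (hd.trans (orderOf_dvd_of_pow_eq_one h2)) with h | h
  · exact hyr h
  · exact hN (h.trans (Subgroup.orderOf_dvd_natCard N hv'))

variable (hM : IsPModular p M) (hx : ∃ k : ℕ, orderOf x = p ^ k)
  (hH : H = Subgroup.centralizer (Subgroup.zpowers x : Set G)) {N : Subgroup G} (hNH : N ≤ H)
  (hn : H ≤ Subgroup.normalizer (N : Set G)) (hN : ¬ p ∣ Nat.card N)
include hM hx hH hNH hn hN

theorem ker_of_principal {ψ : IrrCharacter H} (hψ : ψ ∈ principalBlock M H) {v : G} (hv : v ∈ N) :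
    (ψ : H → ℂ) ⟨v, hNH hv⟩ = (ψ : H → ℂ) 1 := by
  haveI : (N.subgroupOf H).Normal := (Subgroup.normal_subgroupOf_iff_le_normalizer hNH).2 hn
  exact apply_eq_of_mem_normal_pPrime hM (N.subgroupOf H)
    (by rwa [Nat.card_congr (Subgroup.subgroupOfEquivOfLe hNH).toEquiv]) hψ (Subgroup.mem_subgroupOf.2 hv)

/-- The principal block does not see `N` on the section. -/
theorem apply_mul_core {χ : IrrCharacter G} (hχ : χ ∈ principalBlock M G) {y v : G} (hy : y ∈ H) (hv : v ∈ N)
    (hyr : ¬ p ∣ orderOf y) : (χ : G → ℂ) (x * (y * v)) = (χ : G → ℂ) (x * y) := by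
  classical
  have hB : IsPBlock M (principalBlock M G) := isPBlock_blockOf (principal G)
  have key : ∀ c : H, ¬ p ∣ orderOf c → (χ : G → ℂ) (x * (c : G)) =
      ∑ ψ ∈ Finset.univ.filter (· ∈ principalBlock M H),
        classInner (fun d : H => (χ : G → ℂ) (x * (d : G))) (ψ : H → ℂ) * (ψ : H → ℂ) c := by
    intro c hc
    rw [apply_mul_eq_sum_blockPart hM hx hH hB hχ hc, filter_induced_principal hM hx hH, Finset.sum_singleton,
      blockPart_eq_sum]
  have h1 := key ⟨y * v, mul_mem hy (hNH hv)⟩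
    (by rw [← Subgroup.orderOf_coe]; exact regular_mul hM.1 hn hN hy hv hyr)
  have h2 := key ⟨y, hy⟩ (by rwa [← Subgroup.orderOf_coe])
  refine h1.trans (Eq.trans (Finset.sum_congr rfl fun ψ hψ => ?_) h2.symm)
  congr 1
  rw [show (⟨y * v, mul_mem hy (hNH hv)⟩ : H) =
      ⟨y * v * y⁻¹, hNH ((Subgroup.mem_normalizer_iff.1 (hn hy) v).1 hv)⟩ * ⟨y, hy⟩ from
    Subtype.ext (inv_mul_cancel_right _ _).symm]
  exact IsCharacter.ker_mul (isCharacter_of_irr ψ.2)
    (ker_of_principal hM hx hH hNH hn hN (Finset.mem_filter.1 hψ).2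
      ((Subgroup.mem_normalizer_iff.1 (hn hy) v).1 hv))

omit hx hH in
theorem sum_coset_irr (ψ : IrrCharacter H) (y : H) [Fintype (N.subgroupOf H)]
    [Decidable (∀ v ∈ N.subgroupOf H, (ψ : H → ℂ) v = (ψ : H → ℂ) 1)] :
    ∑ v : N.subgroupOf H, (ψ : H → ℂ) (y * v) =
      if (∀ v ∈ N.subgroupOf H, (ψ : H → ℂ) v = (ψ : H → ℂ) 1) then (Nat.card N : ℂ) * (ψ : H → ℂ) y else 0 := by
  classical
  haveI : (N.subgroupOf H).Normal := (Subgroup.normal_subgroupOf_iff_le_normalizer hNH).2 hn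
  split_ifs with h
  · rw [Finset.sum_congr rfl (g := fun _ => (ψ : H → ℂ) y) fun v _ => ?_, Finset.sum_const, Finset.card_univ,
      nsmul_eq_mul, ← Nat.card_eq_fintype_card, Nat.card_congr (Subgroup.subgroupOfEquivOfLe hNH).toEquiv]
    rw [show y * (v : H) = (y * (v : H) * y⁻¹) * y by group]
    exact IsCharacter.ker_mul (isCharacter_of_irr ψ.2)
      (h _ ((inferInstance : (N.subgroupOf H).Normal).conj_mem _ v.2 y))
  · refine (ThreeChars.coset_sum_data (N.subgroupOf H) (isCharacter_of_irr ψ.2) y).1 ?_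
    exact (ThreeChars.sum_normal (N.subgroupOf H) ψ).resolve_right fun hall => h fun v hv => hall ⟨v, hv⟩

/-- Outside the principal block the averages over `N` vanish. -/
theorem sum_core_eq_zero (hfull : Full M H N) [Fintype N] {χ : IrrCharacter G} (hχ : χ ∉ principalBlock M G)
    {y : G} (hy : y ∈ H) (hyr : ¬ p ∣ orderOf y) : ∑ v : N, (χ : G → ℂ) (x * (y * v)) = 0 := by
  classical
  letI := Fintype.ofFinite (N.subgroupOf H)
  set b := principalBlock M H
  have hb : IsPBlock M b := isPBlock_blockOf (principal H)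
  set θ : H → ℂ := fun d => (χ : G → ℂ) (x * (d : G)) with hθ
  have hθc : IsClassFunction H θ := isClassFunction_translate χ x fun c hc => commute_of_mem_centralizer hH hc
  have hnot : ¬ IsInducedBlock M H b (blockOf M (χ : G → ℂ)) := fun h => hχ (by
    have e := IsInducedBlock.unique hM h ((isInducedBlock_principal_iff hM H ⟨_, h⟩).2 rfl)
    exact e ▸ mem_blockOf_self hM χ)
  have key : ∀ c : H, ¬ p ∣ orderOf c →
      θ c = ∑ ψ ∈ Finset.univ.filter (fun ψ => ψ ∉ b), classInner θ (ψ : H → ℂ) * (ψ : H → ℂ) c := by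
    intro c hc
    have h0 := blockPart_translate_eq_zero hM hx hH (isPBlock_blockOf χ) (mem_blockOf_self hM χ) hb hnot c hc
    rw [blockPart_eq_sum] at h0
    rw [classFunction_expand_apply hθc c, ← Finset.sum_filter_add_sum_filter_not Finset.univ (· ∈ b), h0, zero_add]
  let e : N.subgroupOf H ≃ N := (Subgroup.subgroupOfEquivOfLe hNH).toEquiv
  rw [← Fintype.sum_equiv e (fun v => θ (⟨y, hy⟩ * v)) (fun v : N => (χ : G → ℂ) (x * (y * v))) fun v => rfl,
    Finset.sum_congr rfl fun v _ => key _ ?_, Finset.sum_comm]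
  · refine Finset.sum_eq_zero fun ψ hψ => ?_
    rw [← Finset.mul_sum, sum_coset_irr hM hNH hn hN, if_neg fun h => (Finset.mem_filter.1 hψ).2 (hfull ψ h),
      mul_zero]
  · rw [← Subgroup.orderOf_coe]
    exact regular_mul hM.1 hn hN hy (Subgroup.mem_subgroupOf.1 v.2) hyr

/-- The principal columns count conjugations modulo `N`. -/
theorem column_count (hfull : Full M H N) [DecidableEq G] [DecidablePred (· ∈ N)] {y w : H}
    (hy : ¬ p ∣ orderOf y) (hw : ¬ p ∣ orderOf w) [DecidablePred (· ∈ principalBlock M G)] :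
    ∑ χ ∈ Finset.univ.filter (· ∈ principalBlock M G), (χ : G → ℂ) (x * (y : G)) * conj ((χ : G → ℂ) (x * (w : G))) =
      ((Finset.univ.filter fun h : H => (y : G)⁻¹ * ((h : G) * w * (h : G)⁻¹) ∈ N).card : ℂ) / (Nat.card N : ℂ) := by
  classical
  letI := Fintype.ofFinite (N.subgroupOf H)
  have hB : IsPBlock M (principalBlock M G) := isPBlock_blockOf (principal G)
  rw [← colKer_eq, colKer_section hM hx hH hB hy hw]
  change ∑ b ∈ (blocksFinset M H).filter (fun b => IsInducedBlock M H b (principalBlock M G)), colKer b y w = _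
  rw [filter_induced_principal hM hx hH, Finset.sum_singleton, colKer_eq,
    eq_div_iff (Nat.cast_ne_zero.2 Nat.card_pos.ne')]
  have h1 : ∀ ψ : IrrCharacter H, (∑ v : N.subgroupOf H, (ψ : H → ℂ) (y * v)) * conj ((ψ : H → ℂ) w) =
      if ψ ∈ principalBlock M H then (Nat.card N : ℂ) * ((ψ : H → ℂ) y * conj ((ψ : H → ℂ) w)) else 0 := by
    intro ψ
    rw [sum_coset_irr hM hNH hn hN]
    by_cases hψ : ψ ∈ principalBlock M H
    · rw [if_pos hψ, if_pos fun v hv => ker_of_principal hM hx hH hNH hn hN hψ (Subgroup.mem_subgroupOf.1 hv),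
        mul_assoc]
    · rw [if_neg hψ, if_neg fun h => hψ (hfull ψ h), zero_mul]
  calc (∑ ψ ∈ Finset.univ.filter (· ∈ principalBlock M H), (ψ : H → ℂ) y * conj ((ψ : H → ℂ) w)) * (Nat.card N : ℂ)
      = ∑ ψ : IrrCharacter H, (∑ v : N.subgroupOf H, (ψ : H → ℂ) (y * v)) * conj ((ψ : H → ℂ) w) := by
        rw [Finset.sum_congr rfl fun ψ _ => h1 ψ, ← Finset.sum_filter, ← Finset.mul_sum, mul_comm]
    _ = ∑ v : N.subgroupOf H, ((Finset.univ.filter fun h : H => h * w * h⁻¹ = y * v).card : ℂ) := by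
        simp only [Finset.sum_mul]
        rw [Finset.sum_comm]
        exact Finset.sum_congr rfl fun v _ => orth_count _ _
    _ = _ := by
        rw [← Nat.cast_sum, ← Finset.card_sigma]
        congr 1
        refine Finset.card_bij (fun a _ => a.2) (fun a ha => ?_) (fun a ha b hb hab => ?_) fun h hh => ?_
        · have e := (Finset.mem_filter.1 (Finset.mem_sigma.1 ha).2).2
          refine Finset.mem_filter.2 ⟨Finset.mem_univ _, ?_⟩
          have e' := congrArg Subtype.val e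
          simp only [Subgroup.coe_mul, Subgroup.coe_inv] at e'
          rw [e', inv_mul_cancel_left]
          exact Subgroup.mem_subgroupOf.1 a.1.2
        · have e1 := (Finset.mem_filter.1 (Finset.mem_sigma.1 ha).2).2
          have e2 := (Finset.mem_filter.1 (Finset.mem_sigma.1 hb).2).2
          rw [hab, e2] at e1
          obtain ⟨a1, a2⟩ := a
          obtain ⟨b1, b2⟩ := b
          obtain rfl : a2 = b2 := hab
          obtain rfl : a1 = b1 := Subtype.ext (mul_left_cancel e1).symm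
          rfl
        · refine ⟨⟨⟨y⁻¹ * (h * w * h⁻¹), ?_⟩, h⟩, ?_, rfl⟩
          · exact Subgroup.mem_subgroupOf.2 (by simpa using (Finset.mem_filter.1 hh).2)
          · exact Finset.mem_sigma.2 ⟨Finset.mem_univ _, Finset.mem_filter.2
              ⟨Finset.mem_univ _, (mul_inv_cancel_left _ _).symm⟩⟩

end Cfsg.Lib.Lyons
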