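import Cfsg.Agent.Lyons.Frame.Pre
import Cfsg.Agent.Lyons.Chars.Section

/-!
The two sections `z` and `a`, `a² = z`, and the constancy of a character of the principal block on the cosets
`s O`, `1 ≠ s ∈ S`.
-/

set_option autoImplicit false
set_option linter.unusedSectionVars false
set_option linter.style.haveILetI false

namespace Cfsg.Lib.Lyons

open Subgroup Cfsg.Lib.BenderSE.Ring2 Cfsg.Lib.Chars Cfsg.Lib.Blocks
open scoped ComplexConjugate

universe u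

variable {G : Type u} [Group G] [Finite G]

namespace Frame

variable (F : Frame G)

/-- The subgroup `S O`. -/
def SO : Subgroup G where
  carrier := {c | ∃ s ∈ (F.S : Subgroup G), ∃ u ∈ F.O, c = s * u}
  mul_mem' := by
    rintro _ _ ⟨s, hs, u, hu, rfl⟩ ⟨t, ht, v, hv, rfl⟩
    refine ⟨s * t, mul_mem hs ht, t⁻¹ * u * t⁻¹⁻¹ * v,
      mul_mem (F.conj_mem_O (inv_mem (F.sylow_le_C ht)) hu) hv, ?_⟩
    group
  one_mem' := ⟨1, one_mem _, 1, one_mem _, by simp⟩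
  inv_mem' := by
    rintro _ ⟨s, hs, u, hu, rfl⟩
    refine ⟨s⁻¹, inv_mem hs, s * u⁻¹ * s⁻¹, F.conj_mem_O (F.sylow_le_C hs) (inv_mem hu), ?_⟩
    group

/-- The core of the centraliser of `a`. -/
def N (a : G) : Subgroup G := F.O ⊓ centralizer {a}

end Frame

namespace Frame.Pre

variable {F : Frame G} (P : F.Pre)
include P

theorem SO_le_C : F.SO ≤ F.C := by
  rintro _ ⟨s, hs, u, hu, rfl⟩
  exact mul_mem (F.sylow_le_C hs) (F.O_le_C hu)

theorem SO_pow {c : G} (hc : c ∈ F.SO) : ∃ n : ℕ, c ^ 2 ^ n ∈ F.O := by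
  obtain ⟨s, hs, u, hu, rfl⟩ := hc
  obtain ⟨n, hn⟩ := F.two_power hs
  have hi : ∀ i : ℕ, ∃ v ∈ F.O, (s * u) ^ i = s ^ i * v := by
    intro i
    induction i with
    | zero => exact ⟨1, one_mem _, by simp⟩
    | succ i ih =>
      obtain ⟨v, hv, hi⟩ := ih
      refine ⟨(s⁻¹ * v * s⁻¹⁻¹) * u, mul_mem (F.conj_mem_O (inv_mem (F.sylow_le_C hs)) hv) hu, ?_⟩
      rw [pow_succ, hi, pow_succ]; group
  obtain ⟨v, hv, he⟩ := hi (2 ^ n)
  exact ⟨n, by rwa [he, ← hn, pow_orderOf_eq_one, one_mul]⟩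

theorem conj_mem_SO {c q : G} (hc : c ∈ F.C) (hq : q ∈ F.SO) : c * q * c⁻¹ ∈ F.SO := by
  obtain ⟨s, hs, u, hu, rfl⟩ := hq
  obtain ⟨t, ht, h⟩ := P.conj_SO hc hs
  refine ⟨t, ht, t⁻¹ * (c * s * c⁻¹) * (c * u * c⁻¹), mul_mem h (F.conj_mem_O hc hu), ?_⟩
  group

theorem mem_SO_of_comm {c : G} (hc : c ∈ F.C) (h : ∀ q ∈ F.SO, c * q * c⁻¹ * q⁻¹ ∈ F.O) : c ∈ F.SO := by
  obtain ⟨r, hr, k, u, hu, rfl⟩ := P.cover' hc
  by_cases hk : P.e ^ k ∈ F.O
  · exact ⟨r, hr, P.e ^ k * u, mul_mem hk hu, mul_assoc _ _ _⟩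
  exfalso
  obtain ⟨s, hs, hsW⟩ : ∃ s ∈ (F.S : Subgroup G), s ∉ F.W := by
    by_contra hcon
    push Not at hcon
    have := Subgroup.card_le_of_le hcon
    rw [F.ufour.card_all] at this
    rw [show Nat.card F.W = 4 from F.ufour.card_cen] at this
    omega
  refine hsW (P.fpf k hk s hs ?_)
  have h1 := h s ⟨s, hs, 1, one_mem _, by simp⟩
  set g := P.e ^ k with hg
  have hgs : g * s * g⁻¹ ∈ (F.S : Subgroup G) := P.conj_S k hs
  set t := g * s * g⁻¹ with ht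
  have h2 : s⁻¹ * (r * t * r⁻¹) ∈ F.O := by
    have hsc : s⁻¹ * u * s⁻¹⁻¹ * u⁻¹ ∈ F.O :=
      mul_mem (F.conj_mem_O (inv_mem (F.sylow_le_C hs)) hu) (inv_mem hu)
    have h3 := mul_mem (F.conj_mem_O (inv_mem (F.sylow_le_C hs)) h1)
      (inv_mem (F.conj_mem_O (show r * g ∈ F.C from mul_mem (F.sylow_le_C hr) (P.pow_mem_C k)) hsc))
    refine (show s⁻¹ * (r * t * r⁻¹) = _ from ?_) ▸ h3
    rw [ht]; group
  have h4 : r * t * r⁻¹ = s := P.S_eq (mul_mem (mul_mem hr hgs) (inv_mem hr)) hs (P.O_le_K h2)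
  rw [show t * s⁻¹ = (r * t * r⁻¹ * t⁻¹)⁻¹ * ((r * t * r⁻¹) * s⁻¹) by group, h4, mul_inv_cancel, mul_one]
  exact inv_mem (h4 ▸ F.ufour.comm_cen hr hgs)

/-- The centraliser of `a` with `a² = z` is `C_S(a) C_O(a)`. -/
theorem cent_quad {a h : G} (ha : a ∈ (F.S : Subgroup G)) (haW : a ∉ F.W) (ha2 : a * a = F.z)
    (hh : h * a = a * h) :
    ∃ s ∈ (F.S : Subgroup G), s * a = a * s ∧ ∃ u ∈ F.O, u * a = a * u ∧ h = s * u := by
  have hhC : h ∈ F.C := F.mem_C.2 (by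
    rw [← ha2, ← mul_assoc, hh, mul_assoc, hh, mul_assoc])
  obtain ⟨r, hr, k, u, hu, rfl⟩ := P.cover' hhC
  have hrk : r * P.e ^ k ∈ F.C := mul_mem (F.sylow_le_C hr) (P.pow_mem_C k)
  set g := P.e ^ k with hg
  set t := g * a * g⁻¹ with ht
  have htS : t ∈ (F.S : Subgroup G) := P.conj_S k ha
  have hrt : r * t * r⁻¹ = a := by
    refine P.S_eq (mul_mem (mul_mem hr htS) (inv_mem hr)) ha (P.O_le_K ?_)
    have h1 : a⁻¹ * u * a⁻¹⁻¹ * u⁻¹ ∈ F.O :=
      mul_mem (F.conj_mem_O (inv_mem (F.sylow_le_C ha)) hu) (inv_mem hu)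
    have h2 := inv_mem (F.conj_mem_O hrk h1)
    have e : r * g * u * a * (r * g * u)⁻¹ = a := mul_inv_eq_iff_eq_mul.2 hh
    refine (show a⁻¹ * (r * t * r⁻¹) = _ from ?_) ▸ h2
    conv_lhs => arg 1; rw [← e]
    rw [ht]; group
  have hgO : g ∈ F.O := by
    by_contra hgn
    refine haW (P.fpf k hgn a ha ?_)
    rw [show g * a * g⁻¹ * a⁻¹ = (r * t * r⁻¹ * t⁻¹)⁻¹ * ((r * t * r⁻¹) * a⁻¹) by rw [ht]; group, hrt,
      mul_inv_cancel, mul_one]
    exact inv_mem (hrt ▸ F.ufour.comm_cen hr htS)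
  have hga : g * a * g⁻¹ * a⁻¹ = 1 := by
    refine P.eq_one_of_S_K (mul_mem htS (inv_mem ha)) (P.O_le_K ?_)
    rw [show g * a * g⁻¹ * a⁻¹ = g * (a * g⁻¹ * a⁻¹) by group]
    exact mul_mem hgO (F.conj_mem_O (F.sylow_le_C ha) (inv_mem hgO))
  have hta : t = a := by rwa [mul_inv_eq_one] at hga
  rw [hta] at hrt
  have hra : r * a = a * r := mul_inv_eq_iff_eq_mul.1 hrt
  refine ⟨r, hr, hra, g * u, mul_mem hgO hu, ?_, mul_assoc _ _ _⟩
  apply mul_left_cancel (a := r)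
  calc r * (g * u * a) = r * g * u * a := by group
    _ = a * (r * g * u) := hh
    _ = (a * r) * (g * u) := by group
    _ = r * (a * (g * u)) := by rw [← hra]; group

variable {M : Ideal AlgInt} [Fintype G]

theorem not_dvd_K {y : G} (hy : y ∈ P.K) : ¬ 2 ∣ orderOf y := fun h =>
  Nat.not_even_iff_odd.2 (P.odd_of_mem_K hy) (even_iff_two_dvd.2 h)

theorem not_dvd_O : ¬ 2 ∣ Nat.card F.O := fun h => Nat.not_even_iff_odd.2 F.odd_O (even_iff_two_dvd.2 h)

theorem z_pow : ∃ k : ℕ, orderOf F.z = 2 ^ k := ⟨1, by rw [F.orderOf_z, pow_one]⟩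

theorem C_eq : F.C = centralizer (zpowers F.z : Set G) := (centralizer_zpowers F.z).symm

theorem C_norm_O : F.C ≤ normalizer (F.O : Set G) := fun _ hc =>
  Cfsg.Lib.BenderSE.mem_normalizer_of_maps_to fun _ hu => F.conj_mem_O hc hu

theorem full_z (hM : IsPModular 2 M) [Fintype F.C] : Full M F.C F.O :=
  full_of_constrained hM F.C F.O F.O_le_C P.C_norm_O P.not_dvd_O F.SO P.SO_le_C
    (fun _ hc _ hq => P.conj_mem_SO hc hq) (fun _ hq => P.SO_pow hq) fun _ hc h => P.mem_SO_of_comm hc h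

section Quad

variable {a : G}

theorem a_pow (ha : a ∈ (F.S : Subgroup G)) : ∃ k : ℕ, orderOf a = 2 ^ k := F.two_power ha

theorem N_le : F.N a ≤ centralizer {a} := inf_le_right

theorem norm_N (ha2 : a * a = F.z) : centralizer ({a} : Set G) ≤ normalizer (F.N a : Set G) := by
  intro h hh
  refine Cfsg.Lib.BenderSE.mem_normalizer_of_maps_to ?_
  rintro u ⟨hu, hua⟩
  have hhC : h ∈ F.C := F.mem_C.2 (by
    rw [← ha2, ← mul_assoc, mem_centralizer_singleton_iff.1 hh, mul_assoc, mem_centralizer_singleton_iff.1 hh,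
      mul_assoc])
  exact mem_inf.2 ⟨F.conj_mem_O hhC hu, mul_mem (mul_mem hh (show u ∈ centralizer {a} from hua)) (inv_mem hh)⟩

theorem not_dvd_N : ¬ 2 ∣ Nat.card (F.N a) := fun h =>
  P.not_dvd_O (h.trans (Subgroup.card_dvd_of_le inf_le_left))

theorem full_a (hM : IsPModular 2 M) (ha : a ∈ (F.S : Subgroup G)) (haW : a ∉ F.W) (ha2 : a * a = F.z)
    [Fintype (centralizer ({a} : Set G))] : Full M (centralizer {a}) (F.N a) := by
  refine full_of_constrained hM _ _ P.N_le (P.norm_N ha2) P.not_dvd_N (centralizer {a}) le_rfl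
    (fun h hh q hq => mul_mem (mul_mem hh hq) (inv_mem hh)) (fun q hq => ?_) fun h hh _ => hh
  obtain ⟨s, hs, -, u, hu, -, rfl⟩ := P.cent_quad ha haW ha2 (mem_centralizer_singleton_iff.1 hq)
  obtain ⟨n, hn⟩ := P.SO_pow ⟨s, hs, u, hu, rfl⟩
  exact ⟨n, hn, pow_mem hq _⟩

/-- The principal block is constant on `a C_O(a)`. -/
theorem apply_a (hM : IsPModular 2 M) (ha : a ∈ (F.S : Subgroup G)) (ha2 : a * a = F.z)
    {χ : IrrCharacter G} (hχ : χ ∈ principalBlock M G) {v : G} (hv : v ∈ F.O) (hva : v * a = a * v) :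
    (χ : G → ℂ) (a * v) = (χ : G → ℂ) a := by
  letI := Fintype.ofFinite (centralizer ({a} : Set G))
  have h := apply_mul_core (H := centralizer {a}) (N := F.N a) hM (P.a_pow ha) (centralizer_zpowers a).symm
    P.N_le (P.norm_N ha2) P.not_dvd_N hχ (y := 1) (v := v) (one_mem _)
    ⟨hv, mem_centralizer_singleton_iff.2 hva⟩ (by simp)
  simpa using h

end Quad

/-- The principal block is constant on `z e^k O`. -/
theorem apply_z (hM : IsPModular 2 M) {χ : IrrCharacter G} (hχ : χ ∈ principalBlock M G) (k : ℕ) {u : G}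
    (hu : u ∈ F.O) : (χ : G → ℂ) (F.z * (P.e ^ k * u)) = (χ : G → ℂ) (F.z * P.e ^ k) := by
  letI := Fintype.ofFinite F.C
  exact apply_mul_core hM P.z_pow P.C_eq F.O_le_C P.C_norm_O P.not_dvd_O hχ (P.pow_mem_C k) hu
    (P.not_dvd_K (P.pow_mem_K k))

/-- The principal block takes the value at `z e^k` on `w e^k O`. -/
theorem apply_W (hM : IsPModular 2 M) {χ : IrrCharacter G} (hχ : χ ∈ principalBlock M G) {w : G} (hw : w ∈ F.W)
    (hw1 : w ≠ 1) (k : ℕ) {u : G} (hu : u ∈ F.O) :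
    (χ : G → ℂ) (w * (P.e ^ k * u)) = (χ : G → ℂ) (F.z * P.e ^ k) := by
  obtain ⟨v, hv, hc⟩ := P.conj_W_coset hw hw1 k hu
  obtain ⟨g, hg⟩ := isConj_iff.1 hc
  rw [← isClassFunction_irr χ (w * (P.e ^ k * u)) g, hg, P.apply_z hM hχ k hv]

/-- The principal block is constant on `s O`, `1 ≠ s ∈ S`. -/
theorem apply_coset (hM : IsPModular 2 M) {χ : IrrCharacter G} (hχ : χ ∈ principalBlock M G) {s : G}
    (hs : s ∈ (F.S : Subgroup G)) (hs1 : s ≠ 1) {u : G} (hu : u ∈ F.O) :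
    (χ : G → ℂ) (s * u) = (χ : G → ℂ) s := by
  by_cases hsW : s ∈ F.W
  · have h1 := P.apply_W hM hχ hsW hs1 0 hu
    have h2 := P.apply_W hM hχ hsW hs1 0 (one_mem F.O)
    rw [pow_zero, one_mul] at h1 h2
    rw [h1, ← h2, mul_one]
  · obtain ⟨a, ha, -, ha2, hsa, v, hv, hva, hc⟩ := P.conj_quad_coset hs hsW hu
    obtain ⟨g, hg⟩ := isConj_iff.1 hc
    obtain ⟨g', hg'⟩ := isConj_iff.1 hsa
    rw [← isClassFunction_irr χ (s * u) g, hg, P.apply_a hM ha ha2 hχ hv hva, ← isClassFunction_irr χ s g', hg']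

/-- The value on the involutions. -/
theorem apply_involution {χ : IrrCharacter G} {w : G} (hw : w ∈ F.W) (hw1 : w ≠ 1) :
    (χ : G → ℂ) w = (χ : G → ℂ) F.z := by
  obtain ⟨k, rfl⟩ := F.exists_pow_conj hw hw1
  exact isClassFunction_irr χ _ _

/-- Outside the principal block the averages over `z e^k O` vanish. -/
theorem sum_z_zero (hM : IsPModular 2 M) [Fintype F.O] {χ : IrrCharacter G} (hχ : χ ∉ principalBlock M G)
    (k : ℕ) : ∑ v : F.O, (χ : G → ℂ) (F.z * (P.e ^ k * v)) = 0 := by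
  letI := Fintype.ofFinite F.C
  exact sum_core_eq_zero hM P.z_pow P.C_eq F.O_le_C P.C_norm_O P.not_dvd_O (P.full_z hM) hχ (P.pow_mem_C k)
    (P.not_dvd_K (P.pow_mem_K k))

/-- Outside the principal block the averages over `a C_O(a)` vanish. -/
theorem sum_a_zero (hM : IsPModular 2 M) {a : G} (ha : a ∈ (F.S : Subgroup G)) (haW : a ∉ F.W)
    (ha2 : a * a = F.z) [Fintype (F.N a)] {χ : IrrCharacter G} (hχ : χ ∉ principalBlock M G) :
    ∑ v : F.N a, (χ : G → ℂ) (a * v) = 0 := by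
  letI := Fintype.ofFinite (centralizer ({a} : Set G))
  have h := sum_core_eq_zero (H := centralizer {a}) (N := F.N a) hM (P.a_pow ha) (centralizer_zpowers a).symm
    P.N_le (P.norm_N ha2) P.not_dvd_N (P.full_a hM ha haW ha2) hχ (y := 1) (one_mem _) (by simp)
  simpa using h

end Frame.Pre

end Cfsg.Lib.Lyons
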