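import Cfsg.Agent.Lyons.Chars.Coset
import Cfsg.Agent.Chars.Sums

/-!
The column of an element `a` of order four with `a² = z`.
-/

set_option autoImplicit false
set_option linter.unusedSectionVars false
set_option linter.style.haveILetI false

namespace Cfsg.Lib.Lyons

open Subgroup Cfsg.Lib.BenderSE.Ring2 Cfsg.Lib.Chars Cfsg.Lib.Blocks
open scoped ComplexConjugate

universe u

variable {G : Type u} [Group G] [Finite G]

/-- The characters of the principal block. -/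
noncomputable def blockZero [Fintype G] (M : Ideal AlgInt) : Finset (IrrCharacter G) := by
  classical
  exact Finset.univ.filter (· ∈ principalBlock M G)

theorem mem_blockZero [Fintype G] {M : Ideal AlgInt} {χ : IrrCharacter G} :
    χ ∈ blockZero M ↔ χ ∈ principalBlock M G := by simp [blockZero]

namespace Frame

variable (F : Frame G)

theorem exists_not_W : ∃ s ∈ (F.S : Subgroup G), s ∉ F.W := by
  by_contra hcon
  push Not at hcon
  have h := Subgroup.card_le_of_le hcon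
  rw [F.ufour.card_all] at h
  rw [show Nat.card F.W = 4 from F.ufour.card_cen] at h
  omega

theorem exists_quad : ∃ a ∈ (F.S : Subgroup G), a ∉ F.W ∧ a * a = F.z := by
  obtain ⟨s, hs, hsW⟩ := F.exists_not_W
  obtain ⟨y, hy, -, hy2⟩ := F.ufour.sqr s hs hsW F.z F.z_mem
  exact ⟨y, hy, fun h => F.z_ne (hy2 ▸ F.ufour.sq_one h), hy2⟩

end Frame

namespace Frame.Pre

variable {F : Frame G} (P : F.Pre) {a : G}
include P

theorem quad_inv (ha2 : a * a = F.z) : a⁻¹ = a * F.z := by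
  refine inv_eq_of_mul_eq_one_right ?_
  rw [← mul_assoc, ha2, F.z_sq]

theorem quad_inv_conj (ha : a ∈ (F.S : Subgroup G)) (haW : a ∉ F.W) (ha2 : a * a = F.z) : IsConj a a⁻¹ := by
  obtain ⟨t, -, ht⟩ := F.ufour.exists_comm ha haW F.z_mem
  refine isConj_iff.2 ⟨t, ?_⟩
  rw [ht, P.quad_inv ha2, cenOf_comm F.z_mem ha]

theorem quad_pow_four (ha2 : a * a = F.z) : a ^ 4 = 1 := by
  rw [show a ^ 4 = a * a * (a * a) by simp [pow_succ, mul_assoc], ha2, F.z_sq]

theorem quad_not_conj_z (ha : a ∈ (F.S : Subgroup G)) (haW : a ∉ F.W) (ha2 : a * a = F.z) : ¬ IsConj F.z a := by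
  intro h
  obtain ⟨g, hg⟩ := isConj_iff.1 h
  refine haW ((F.ufour.cen_iff a ha).1 ?_)
  rw [← hg, show g * F.z * g⁻¹ * (g * F.z * g⁻¹) = g * (F.z * F.z) * g⁻¹ by group, F.z_sq, mul_one,
    mul_inv_cancel]

/-- The value at `a` is an integer. -/
theorem exists_int_quad (ha : a ∈ (F.S : Subgroup G)) (haW : a ∉ F.W) (ha2 : a * a = F.z) (χ : IrrCharacter G) :
    ∃ p : ℤ, (χ : G → ℂ) a = p := by
  have hord : orderOf a ∣ 4 := orderOf_dvd_of_pow_eq_one (P.quad_pow_four ha2)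
  obtain ⟨q, hq⟩ := rat_of_galConj_fixed (IsCharacter.mem_cycField (m := 4) (isCharacter_of_irr χ.2) hord)
    fun σ k hk hσ => by
      rw [IsGalConj.apply_character hσ (isCharacter_of_irr χ.2) hord]
      have hk4 : k % 4 = 1 ∨ k % 4 = 3 := by
        have h2 : ¬ 2 ∣ k := fun h => by
          have := Nat.dvd_gcd h (show 2 ∣ 4 by norm_num)
          rw [hk] at this
          norm_num at this
        omega
      have hmod : a ^ k = a ^ (k % 4) := by
        conv_lhs => rw [← Nat.div_add_mod k 4, pow_add, pow_mul, P.quad_pow_four ha2, one_pow, one_mul]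
      rcases hk4 with e | e <;> rw [hmod, e]
      · rw [pow_one]
      · obtain ⟨g, hg⟩ := isConj_iff.1 (P.quad_inv_conj ha haW ha2)
        rw [show a ^ 3 = a⁻¹ from (inv_eq_of_mul_eq_one_right (by rw [← pow_succ', P.quad_pow_four ha2])).symm,
          ← hg, isClassFunction_irr χ a g]
  obtain ⟨m, hm⟩ := int_of_isIntegral_rat (q := q) (hq ▸ IsCharacter.isIntegral (isCharacter_of_irr χ.2) a)
  exact ⟨m, by rw [hq, hm]; norm_cast⟩

theorem card_cent (ha : a ∈ (F.S : Subgroup G)) (haW : a ∉ F.W) (ha2 : a * a = F.z) :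
    Nat.card (centralizer ({a} : Set G)) = 16 * Nat.card (F.N a) := by
  rw [← F.ufour.card_cent ha haW, ← Nat.card_prod]
  symm
  refine Nat.card_eq_of_bijective
    (fun q : ↥((F.S : Subgroup G) ⊓ centralizer {a}) × ↥(F.N a) =>
      (⟨(q.1 : G) * q.2, mul_mem (S := Subgroup G) q.1.2.2 q.2.2.2⟩ : centralizer ({a} : Set G))) ⟨?_, ?_⟩
  · rintro ⟨s, u⟩ ⟨t, v⟩ h
    have h1 : (s : G) * u = (t : G) * v := congrArg Subtype.val h
    have hst : (s : G) = t := by
      refine P.S_eq s.2.1 t.2.1 (P.O_le_K ?_)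
      rw [show (t : G)⁻¹ * s = v * (u : G)⁻¹ by rw [eq_mul_inv_iff_mul_eq, mul_assoc, h1, inv_mul_cancel_left]]
      exact mul_mem v.2.1 (inv_mem u.2.1)
    rw [hst, mul_right_inj] at h1
    exact Prod.ext (Subtype.ext hst) (Subtype.ext h1)
  · rintro ⟨h, hh⟩
    obtain ⟨s, hs, hsa, u, hu, hua, rfl⟩ := P.cent_quad ha haW ha2 (mem_centralizer_singleton_iff.1 hh)
    exact ⟨(⟨s, hs, mem_centralizer_singleton_iff.2 hsa⟩, ⟨u, hu, mem_centralizer_singleton_iff.2 hua⟩), rfl⟩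

variable {M : Ideal AlgInt} [Fintype G]

/-- The principal column at `a` has norm 16. -/
theorem column_aa (hM : IsPModular 2 M) (ha : a ∈ (F.S : Subgroup G)) (haW : a ∉ F.W) (ha2 : a * a = F.z) :
    ∑ χ ∈ blockZero (G := G) M, (χ : G → ℂ) a * conj ((χ : G → ℂ) a) = 16 := by
  classical
  letI := Fintype.ofFinite (centralizer ({a} : Set G))
  have h := column_count (H := centralizer {a}) (N := F.N a) hM (P.a_pow ha) (centralizer_zpowers a).symm
    P.N_le (P.norm_N ha2) P.not_dvd_N (P.full_a hM ha haW ha2) (y := 1) (w := 1) (by simp) (by simp)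
  simp only [OneMemClass.coe_one, inv_one, one_mul, mul_one, mul_inv_cancel, one_mem, Finset.filter_true,
    Finset.card_univ, ← Nat.card_eq_fintype_card, P.card_cent ha haW ha2, Nat.cast_mul] at h
  rw [mul_div_assoc, div_self (Nat.cast_ne_zero.2 Nat.card_pos.ne'), mul_one] at h
  convert h using 2 <;> simp [blockZero]

/-- Two conjugates of `z` have no product in `a C_O(a)`. -/
theorem no_pairs_a (ha : a ∈ (F.S : Subgroup G)) (ha2 : a * a = F.z) {v : G}
    (hv : v ∈ F.O) (hva : v * a = a * v) {s s' : G} (hs : IsConj F.z s) (hs' : IsConj F.z s') :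
    s * s' ≠ a * v := by
  intro h
  have hinvol : ∀ w : G, IsConj F.z w → w * w = 1 := by
    rintro w hw
    obtain ⟨g, rfl⟩ := isConj_iff.1 hw
    rw [show g * F.z * g⁻¹ * (g * F.z * g⁻¹) = g * (F.z * F.z) * g⁻¹ by group, F.z_sq, mul_one, mul_inv_cancel]
  have hsi : s⁻¹ = s := inv_eq_of_mul_eq_one_right (hinvol s hs)
  have hsi' : s'⁻¹ = s' := inv_eq_of_mul_eq_one_right (hinvol s' hs')
  have hinv : s * (a * v) * s⁻¹ = (a * v)⁻¹ := by
    rw [← h, mul_inv_rev, hsi, hsi']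
    calc s * (s * s') * s = s * s * (s' * s) := by group
      _ = s' * s := by rw [hinvol s hs, one_mul]
  have hodd : ¬ 2 ∣ orderOf v := P.not_dvd_K (P.O_le_K hv)
  have hp : IsPPart 2 (a * v) a := isPPart_mul hva.symm (P.a_pow ha) hodd
  have hp' : IsPPart 2 (a * v)⁻¹ a⁻¹ :=
    ⟨v⁻¹, by rw [← mul_inv_rev, hva], (show Commute a v from hva.symm).inv_inv,
      by rw [orderOf_inv]; exact P.a_pow ha, by rwa [orderOf_inv]⟩
  have hsa : s * a * s⁻¹ = a⁻¹ := IsPPart.eq Nat.prime_two (hinv ▸ IsPPart.conj hp s) hp'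
  have hsC : s ∈ F.C := F.mem_C.2 (by
    refine mul_inv_eq_iff_eq_mul.1 ?_
    rw [← ha2, show s * (a * a) * s⁻¹ = s * a * s⁻¹ * (s * a * s⁻¹) by group, hsa, ← mul_inv_rev, ha2, F.z_inv])
  obtain ⟨r, hr, k, u, hu, rfl⟩ := P.cover' hsC
  have hrr : ∀ (r' : G), r' ∈ (F.S : Subgroup G) → r' ∈ F.SO := fun r' h' => ⟨r', h', 1, one_mem _, by simp⟩
  -- an involution of `C` lies in `S O`
  set g := P.e ^ k * u with hg
  have hgK : g ∈ P.K := ⟨k, u, hu, rfl⟩
  rw [show r * P.e ^ k * u = r * g from mul_assoc _ _ _] at hsi hsa hs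
  have hsq : r * g * (r * g) = 1 := hinvol _ hs
  have hg2 : g * g ∈ F.SO := by
    have e : g * g = (g * r * g⁻¹)⁻¹ * r⁻¹ := by
      have h1 : g * r * g = r⁻¹ := eq_inv_of_mul_eq_one_right (by rw [← hsq]; group)
      rw [← h1]; group
    rw [e]
    exact mul_mem (inv_mem (P.conj_mem_SO (P.K_le_C hgK) (hrr r hr))) (hrr _ (inv_mem hr))
  have hgO : g ∈ F.O := by
    obtain ⟨r', hr', u', hu', he⟩ := hg2
    have h1 : r' = 1 := P.eq_one_of_S_K hr' (by
      rw [show r' = g * g * u'⁻¹ by rw [he]; group]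
      exact mul_mem (mul_mem hgK hgK) (P.O_le_K (inv_mem hu')))
    obtain ⟨m, hm⟩ := P.odd_of_mem_K hgK
    have h2 : g = (g * g) ^ (m + 1) := by
      rw [← pow_two, ← pow_mul, show 2 * (m + 1) = orderOf g + 1 by omega, pow_succ, pow_orderOf_eq_one, one_mul]
    rw [h2, he, h1, one_mul]
    exact pow_mem hu' _
  have hr2 : r * r = 1 := by
    refine P.eq_one_of_S_K (mul_mem hr hr) (P.O_le_K ?_)
    have e : r * r = (r⁻¹ * g * r⁻¹⁻¹ * g)⁻¹ :=
      eq_inv_of_mul_eq_one_left (by rw [← hsq]; group)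
    rw [e]
    exact inv_mem (mul_mem (F.conj_mem_O (inv_mem (F.sylow_le_C hr)) hgO) hgO)
  have hrW : r ∈ F.W := (F.ufour.cen_iff r hr).1 hr2
  have hO : a * (a⁻¹)⁻¹ ∈ F.O := by
    have h1 : (g * a * g⁻¹ * a⁻¹) ∈ F.O := by
      rw [show g * a * g⁻¹ * a⁻¹ = g * (a * g⁻¹ * a⁻¹) by group]
      exact mul_mem hgO (F.conj_mem_O (F.sylow_le_C ha) (inv_mem hgO))
    have h2 := F.conj_mem_O (F.sylow_le_C hr) h1
    have h3 : r * a * r⁻¹ = a := by rw [← cenOf_comm hrW ha, mul_inv_cancel_right]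
    have e : r * (g * a * g⁻¹ * a⁻¹) * r⁻¹ = a⁻¹ * a⁻¹ := by
      calc r * (g * a * g⁻¹ * a⁻¹) * r⁻¹ = r * g * a * (r * g)⁻¹ * (r * a * r⁻¹)⁻¹ := by group
        _ = _ := by rw [hsa, h3]
    rw [inv_inv]
    rw [e] at h2
    have := inv_mem h2
    rwa [← mul_inv_rev, inv_inv] at this
  have := F.eq_one_of_odd (show a * a⁻¹⁻¹ ∈ (F.S : Subgroup G) from by
    rw [inv_inv]; exact mul_mem ha ha) (F.odd_of_mem_O hO)
  rw [inv_inv, ha2] at this
  exact F.z_ne this

/-- The class identity at `a`, restricted to the principal block. -/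
theorem count_quad (hM : IsPModular 2 M) (ha : a ∈ (F.S : Subgroup G)) (haW : a ∉ F.W) (ha2 : a * a = F.z) :
    ∑ χ ∈ blockZero (G := G) M, (χ : G → ℂ) F.z * (χ : G → ℂ) F.z * (χ : G → ℂ) a / (χ : G → ℂ) 1 = 0 := by
  classical
  letI := Fintype.ofFinite (F.N a)
  obtain ⟨hK, hG⟩ : (Nat.card {x : G // IsConj F.z x} : ℂ) ≠ 0 ∧ (Nat.card G : ℂ) ≠ 0 := by
    haveI : Nonempty {x : G // IsConj F.z x} := ⟨⟨_, IsConj.refl _⟩⟩
    exact ⟨Nat.cast_ne_zero.2 Nat.card_pos.ne', Nat.cast_ne_zero.2 Nat.card_pos.ne'⟩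
  have hv0 : ∀ v : F.N a, ∑ χ : IrrCharacter G,
      (χ : G → ℂ) F.z * (χ : G → ℂ) F.z * conj ((χ : G → ℂ) (a * v)) / (χ : G → ℂ) 1 = 0 := by
    intro v
    have h := class_mult_formula F.z F.z (a * (v : G))
    haveI : IsEmpty {q : G × G // IsConj F.z q.1 ∧ IsConj F.z q.2 ∧ q.1 * q.2 = a * (v : G)} :=
      ⟨fun q => P.no_pairs_a ha ha2 v.2.1 (mem_centralizer_singleton_iff.1 v.2.2) q.2.1 q.2.2.1 q.2.2.2⟩
    rw [Nat.card_of_isEmpty, Nat.cast_zero] at h
    exact (mul_eq_zero.1 h.symm).resolve_left (div_ne_zero (mul_ne_zero hK hK) hG)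
  have h2 := (Finset.sum_eq_zero fun v (_ : v ∈ (Finset.univ : Finset (F.N a))) => hv0 v)
  rw [Finset.sum_comm] at h2
  have hN0 : (Nat.card (F.N a) : ℂ) ≠ 0 := Nat.cast_ne_zero.2 Nat.card_pos.ne'
  refine (mul_eq_zero.1 (Eq.trans ?_ h2)).resolve_left hN0
  rw [Finset.mul_sum, ← Finset.sum_subset (Finset.subset_univ (blockZero M)) (f := fun χ : IrrCharacter G =>
    ∑ v : F.N a, (χ : G → ℂ) F.z * (χ : G → ℂ) F.z * conj ((χ : G → ℂ) (a * v)) / (χ : G → ℂ) 1)]
  · refine Finset.sum_congr rfl fun χ hχ => ?_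
    obtain ⟨q, hq⟩ := P.exists_int_quad ha haW ha2 χ
    rw [Finset.sum_congr rfl (g := fun _ => (χ : G → ℂ) F.z * (χ : G → ℂ) F.z * (χ : G → ℂ) a / (χ : G → ℂ) 1)
      fun v _ => by
        rw [P.apply_a hM ha ha2 (mem_blockZero.1 hχ) v.2.1 (mem_centralizer_singleton_iff.1 v.2.2), hq,
          map_intCast],
      Finset.sum_const, Finset.card_univ, nsmul_eq_mul, ← Nat.card_eq_fintype_card]
  · intro χ _ hχ
    rw [← Finset.sum_div, ← Finset.mul_sum, ← map_sum,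
      P.sum_a_zero hM ha haW ha2 (fun h => hχ (mem_blockZero.2 h)), map_zero, mul_zero, zero_div]

end Frame.Pre

end Cfsg.Lib.Lyons
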