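import Cfsg.Agent.Lyons.Frame.Five
import Cfsg.Agent.Lyons.Chars.Quad
import Cfsg.Agent.FourGroupGW.Chars.Block

/-!
`E = C₅`: the multiplicities `d` of the five linear characters at `z`, and their column relations.
-/

set_option autoImplicit false
set_option linter.unusedSectionVars false
set_option linter.style.haveILetI false

namespace Cfsg.Lib.Lyons

open Subgroup Cfsg.Lib.BenderSE.Ring2 Cfsg.Lib.Chars Cfsg.Lib.Blocks
open scoped ComplexConjugate

universe u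

/-- The fifth roots of unity as a character of `ZMod 5`. -/
noncomputable def ev (t : ZMod 5) : ℂ := ZMod.stdAddChar t

theorem ev_add (s t : ZMod 5) : ev (s + t) = ev s * ev t := AddChar.map_add_eq_mul _ s t

theorem ev_zero : ev 0 = 1 := AddChar.map_zero_eq_one _

theorem ev_conj (t : ZMod 5) : conj (ev t) = ev (-t) := (AddChar.map_neg_eq_conj _ t).symm

theorem ev_sum (b : ZMod 5) : ∑ t : ZMod 5, ev (t * b) = if b = 0 then 5 else 0 := by
  rw [show (∑ t : ZMod 5, ev (t * b)) = ∑ t : ZMod 5, ZMod.stdAddChar (t * b) from rfl,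
    AddChar.sum_mulShift b (ZMod.isPrimitive_stdAddChar 5), ZMod.card]
  split_ifs <;> norm_num

theorem ev_ne_zero (t : ZMod 5) : ev t ≠ 0 := fun h => by
  have := ev_add t (-t)
  rw [add_neg_cancel, ev_zero, h, zero_mul] at this
  exact one_ne_zero this

theorem ev_pow (t : ZMod 5) (k : ℕ) : ev t ^ k = ev (k • t) := (AddChar.map_nsmul_eq_pow _ k t).symm

variable {G : Type u} [Group G] [Finite G]

namespace Frame.Five

variable {F : Frame G} (E : F.Five)
include E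

/-- The mean of `χ` on `z e^k O`. -/
noncomputable def zval (χ : G → ℂ) (k : ZMod 5) : ℂ :=
  (Nat.card F.O : ℂ)⁻¹ * ∑ᶠ u : F.O, χ (F.z * (E.e ^ k.val * u))

/-- The multiplicity of the `b`-th linear character in `χ` on `z O ⟨e⟩`. -/
noncomputable def dC (χ : G → ℂ) (b : ZMod 5) : ℂ := 5⁻¹ * ∑ k : ZMod 5, ev (-(b * k)) * E.zval χ k

theorem zval_eq (χ : G → ℂ) (k : ZMod 5) [Fintype F.O] :
    E.zval χ k = (Nat.card F.O : ℂ)⁻¹ * ∑ u : F.O, χ (F.z * (E.e ^ k.val * u)) := by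
  rw [Frame.Five.zval, finsum_eq_sum_of_fintype]

/-- The Fourier inversion. -/
theorem sum_dC (χ : G → ℂ) (k : ZMod 5) : ∑ b, E.dC χ b * ev (b * k) = E.zval χ k := by
  simp only [Frame.Five.dC, Finset.mul_sum, Finset.sum_mul]
  rw [Finset.sum_comm, Finset.sum_congr rfl (g := fun j => 5⁻¹ * E.zval χ j * ∑ b, ev (b * (k - j)))]
  · simp only [ev_sum, sub_eq_zero, mul_ite, mul_zero]
    rw [Finset.sum_ite_eq, if_pos (Finset.mem_univ _)]
    ring
  · intro j _
    rw [Finset.mul_sum]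
    refine Finset.sum_congr rfl fun b _ => ?_
    rw [mul_sub, sub_eq_neg_add, ev_add]
    ring

/-- The index of an element of `O ⟨e⟩`. -/
noncomputable def idx (x : E.pre.K) : ZMod 5 := (Classical.choose x.2 : ℕ)

theorem idx_spec (x : E.pre.K) {k : ℕ} {u : G} (hu : u ∈ F.O) (h : (x : G) = E.e ^ k * u) :
    E.idx x = (k : ZMod 5) := by
  obtain ⟨v, hv, he⟩ := Classical.choose_spec x.2
  have he' : E.e ^ k * u = E.e ^ (Classical.choose x.2 : ℕ) * v := h.symm.trans he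
  show ((Classical.choose x.2 : ℕ) : ZMod 5) = k
  rw [ZMod.natCast_eq_natCast_iff']
  refine E.mod_of_pow ?_
  rw [show (E.e ^ Classical.choose x.2)⁻¹ * E.e ^ k = v * u⁻¹ by
    rw [eq_mul_inv_iff_mul_eq, mul_assoc, he', inv_mul_cancel_left]]
  exact mul_mem hv (inv_mem hu)

theorem idx_mul (x y : E.pre.K) : E.idx (x * y) = E.idx x + E.idx y := by
  obtain ⟨k, u, hu, hx⟩ := x.2
  obtain ⟨j, v, hv, hy⟩ := y.2
  change (x : G) = E.e ^ k * u at hx
  change (y : G) = E.e ^ j * v at hy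
  rw [E.idx_spec x hu hx, E.idx_spec y hv hy, ← Nat.cast_add]
  refine E.idx_spec _ (mul_mem (F.conj_mem_O (inv_mem (pow_mem E.e_mem j)) hu) hv) ?_
  rw [Subgroup.coe_mul, hx, hy, pow_add]; group

/-- The linear characters of `O ⟨e⟩`. -/
noncomputable def lin (b : ZMod 5) : E.pre.K →* ℂˣ where
  toFun x := Units.mk0 (ev (b * E.idx x)) (ev_ne_zero _)
  map_one' := by
    refine Units.ext ?_
    show ev (b * E.idx 1) = 1
    rw [E.idx_spec 1 (one_mem _) (show ((1 : E.pre.K) : G) = E.e ^ 0 * 1 by simp), Nat.cast_zero, mul_zero, ev_zero]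
  map_mul' x y := by
    refine Units.ext ?_
    show ev (b * E.idx (x * y)) = ev (b * E.idx x) * ev (b * E.idx y)
    rw [E.idx_mul, mul_add, ev_add]

/-- The coordinates on `O ⟨e⟩`. -/
def kcoord (q : ZMod 5 × F.O) : E.pre.K := ⟨E.e ^ q.1.val * q.2, q.1.val, q.2, q.2.2, rfl⟩

theorem idx_kcoord (q : ZMod 5 × F.O) : E.idx (E.kcoord q) = q.1 :=
  (E.idx_spec (E.kcoord q) q.2.2 rfl).trans (ZMod.natCast_zmod_val _)

theorem kcoord_bijective : Function.Bijective E.kcoord := by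
  constructor
  · intro q r h
    have h0 : q.1 = r.1 := by rw [← E.idx_kcoord q, h, E.idx_kcoord]
    have h1 : E.e ^ q.1.val * (q.2 : G) = E.e ^ r.1.val * r.2 := congrArg Subtype.val h
    rw [h0, mul_right_inj] at h1
    exact Prod.ext h0 (Subtype.ext h1)
  · rintro ⟨x, k, u, hu, rfl⟩
    have hm : ((k : ZMod 5)).val % 5 = k % 5 := by rw [ZMod.val_natCast, Nat.mod_mod]
    refine ⟨((k : ZMod 5), ⟨_, mul_mem (E.pow_congr hm) hu⟩), Subtype.ext ?_⟩
    show E.e ^ (k : ZMod 5).val * ((E.e ^ (k : ZMod 5).val)⁻¹ * E.e ^ k * u) = E.e ^ k * u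
    group

/-- The multiplicities are integers. -/
theorem exists_int_dC [Fintype G] (χ : IrrCharacter G) (b : ZMod 5) : ∃ n : ℤ, E.dC (χ : G → ℂ) b = n := by
  classical
  letI := Fintype.ofFinite F.C
  letI := Fintype.ofFinite F.O
  letI := Fintype.ofFinite E.pre.K
  obtain ⟨n, hn⟩ := GW.Chr.exists_int_inner F.C (F.mem_C.2 rfl) F.z_sq
    (fun w hw => (F.mem_C.1 hw).symm) (isCharacter_of_irr χ.2) E.pre.K E.pre.K_le_C
    ⟨fun x => (E.lin b x : ℂ), isIrrCharacter_linear _⟩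
  refine ⟨n, ?_⟩
  rw [← hn, classInner_def, ← Fintype.sum_bijective E.kcoord E.kcoord_bijective
    (fun q => (χ : G → ℂ) (F.z * (E.kcoord q : G)) * conj ((E.lin b (E.kcoord q) : ℂˣ) : ℂ)) _ (fun _ => rfl),
    ← Nat.card_eq_of_bijective E.kcoord E.kcoord_bijective, Nat.card_prod, Nat.card_zmod, Fintype.sum_prod_type,
    Frame.Five.dC]
  push_cast
  simp only [E.zval_eq, Finset.mul_sum, mul_inv]
  refine Finset.sum_congr rfl fun k _ => Finset.sum_congr rfl fun u _ => ?_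
  show _ = _ * _ * ((χ : G → ℂ) (F.z * (E.e ^ k.val * u)) * conj (ev (b * E.idx (E.kcoord (k, u)))))
  rw [E.idx_kcoord, ev_conj]
  ring

variable {M : Ideal AlgInt} [Fintype G]

theorem zval_principal (hM : IsPModular 2 M) {χ : IrrCharacter G} (hχ : χ ∈ principalBlock M G) (k : ZMod 5) :
    E.zval (χ : G → ℂ) k = (χ : G → ℂ) (F.z * E.e ^ k.val) := by
  letI := Fintype.ofFinite F.O
  rw [E.zval_eq, Finset.sum_congr rfl (g := fun _ => (χ : G → ℂ) (F.z * E.e ^ k.val))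
    fun (u : F.O) _ => (show (χ : G → ℂ) (F.z * (E.e ^ k.val * u)) = (χ : G → ℂ) (F.z * E.e ^ k.val) from
      E.pre.apply_z hM hχ k.val u.2), Finset.sum_const, Finset.card_univ, nsmul_eq_mul,
    ← Nat.card_eq_fintype_card, inv_mul_cancel_left₀ (Nat.cast_ne_zero.2 Nat.card_pos.ne')]

theorem zval_zero (hM : IsPModular 2 M) {χ : IrrCharacter G} (hχ : χ ∉ principalBlock M G) (k : ZMod 5) :
    E.zval (χ : G → ℂ) k = 0 := by
  letI := Fintype.ofFinite F.O
  rw [E.zval_eq, show (∑ u : F.O, (χ : G → ℂ) (F.z * (E.e ^ k.val * u))) = 0 from E.pre.sum_z_zero hM hχ k.val,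
    mul_zero]

theorem sum_dC_z (hM : IsPModular 2 M) {χ : IrrCharacter G} (hχ : χ ∈ principalBlock M G) :
    ∑ b, E.dC (χ : G → ℂ) b = (χ : G → ℂ) F.z := by
  have h := E.sum_dC (χ : G → ℂ) 0
  simp only [mul_zero, ev_zero, mul_one] at h
  rw [h, E.zval_principal hM hχ, ZMod.val_zero, pow_zero, mul_one]

theorem dC_principal (b : ZMod 5) : E.dC ((principal G : IrrCharacter G) : G → ℂ) b = if b = 0 then 1 else 0 := by
  letI := Fintype.ofFinite F.O
  have hz : ∀ k, E.zval ((principal G : IrrCharacter G) : G → ℂ) k = 1 := fun k => by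
    rw [E.zval_eq]; simp [principal, Nat.card_eq_fintype_card, Fintype.card_ne_zero]
  simp only [Frame.Five.dC, hz, mul_one]
  rw [show (∑ k : ZMod 5, ev (-(b * k))) = ∑ k : ZMod 5, ev (k * -b) from
    Finset.sum_congr rfl fun k _ => by rw [mul_neg, mul_comm k], ev_sum]
  simp only [neg_eq_zero]
  split_ifs <;> norm_num

/-- Conjugation in `C` of `e^k` into the coset of `e^j`. -/
theorem conj_pow_iff (s : ↥(F.S : Subgroup G)) (i : ℕ) (u : F.O) (j k : ℕ) :
    (E.e ^ j)⁻¹ * ((s : G) * E.e ^ i * u * E.e ^ k * ((s : G) * E.e ^ i * u)⁻¹) ∈ F.O ↔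
      j % 5 = k % 5 ∧ ((s : G) ∈ F.W ∨ k % 5 = 0) := by
  set g := E.e ^ k with hg
  have hgC : g ∈ F.C := pow_mem E.e_mem k
  set r := g * (s : G)⁻¹ * g⁻¹ with hr
  have hrS : r ∈ (F.S : Subgroup G) := (mem_normalizer_iff.1 (pow_mem E.e_norm k) _).1 (inv_mem s.2)
  have hsi : (s : G) * E.e ^ i ∈ F.C := mul_mem (F.sylow_le_C s.2) (pow_mem E.e_mem i)
  have hy : ((s : G) * g * (s : G)⁻¹)⁻¹ * ((s : G) * E.e ^ i * u * g * ((s : G) * E.e ^ i * u)⁻¹) ∈ F.O := by
    have h1 : g⁻¹ * (u : G) * g⁻¹⁻¹ * (u : G)⁻¹ ∈ F.O :=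
      mul_mem (F.conj_mem_O (inv_mem hgC) u.2) (inv_mem u.2)
    have hc : (E.e ^ i)⁻¹ * g * E.e ^ i = g := by
      rw [hg, mul_assoc, ← pow_add, add_comm, pow_add, inv_mul_cancel_left]
    convert F.conj_mem_O hsi h1 using 1
    calc ((s : G) * g * (s : G)⁻¹)⁻¹ * ((s : G) * E.e ^ i * u * g * ((s : G) * E.e ^ i * u)⁻¹)
        = (s : G) * (g⁻¹ * E.e ^ i) * u * g * (u : G)⁻¹ * ((E.e ^ i)⁻¹ * (s : G)⁻¹) := by group
      _ = _ := by
        rw [show g⁻¹ * E.e ^ i = E.e ^ i * g⁻¹ by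
          rw [inv_mul_eq_iff_eq_mul, ← mul_assoc, eq_mul_inv_iff_mul_eq, hg, ← pow_add, ← pow_add, add_comm]]
        group
  have hiff : (E.e ^ j)⁻¹ * ((s : G) * E.e ^ i * u * g * ((s : G) * E.e ^ i * u)⁻¹) ∈ F.O ↔
      (E.e ^ j)⁻¹ * ((s : G) * g * (s : G)⁻¹) ∈ F.O := by
    constructor
    · intro h
      have := mul_mem h (inv_mem hy)
      refine (show (E.e ^ j)⁻¹ * ((s : G) * g * (s : G)⁻¹) = _ from ?_) ▸ this
      group
    · intro h
      have := mul_mem h hy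
      refine (show (E.e ^ j)⁻¹ * _ = _ from ?_) ▸ this
      group
  rw [hiff]
  have hsg : (s : G) * g * (s : G)⁻¹ = (s : G) * r * g := by rw [hr]; group
  constructor
  · intro h
    have hK : (s : G) * r ∈ E.pre.K := by
      have h1 : (s : G) * g * (s : G)⁻¹ * g⁻¹ ∈ E.pre.K := by
        refine (show (s : G) * g * (s : G)⁻¹ * g⁻¹ =
          E.e ^ j * ((E.e ^ j)⁻¹ * ((s : G) * g * (s : G)⁻¹)) * g⁻¹ by group) ▸ ?_
        exact mul_mem (mul_mem (E.pre.pow_mem_K j) (E.pre.O_le_K h)) (inv_mem (E.pre.pow_mem_K k))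
      rwa [hsg, mul_inv_cancel_right] at h1
    have h1 := E.pre.eq_one_of_S_K (mul_mem s.2 hrS) hK
    rw [hsg, h1, one_mul] at h
    refine ⟨E.mod_of_pow h, ?_⟩
    by_cases h5 : k % 5 = 0
    · exact Or.inr h5
    left
    refine E.fixed_pow (k := k) (fun hd => h5 (Nat.mod_eq_zero_of_dvd hd)) s.2 ?_
    calc g * (s : G) = (s : G) * r * g * s := by rw [h1, one_mul]
      _ = (s : G) * g := by rw [hr]; group
  · rintro ⟨hjk, hs⟩
    have hsgs : (s : G) * g * (s : G)⁻¹ = g := by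
      rcases hs with hs | hs
      · rw [((show Commute E.e (s : G) from E.e_cen _ hs).pow_left k).symm.eq, mul_inv_cancel_right]
      · obtain ⟨m, hm⟩ := Nat.dvd_of_mod_eq_zero hs
        rw [hg, hm, pow_mul, ((show Commute (E.e ^ 5) (s : G) from E.pow_five_comm s.2).pow_left m).symm.eq,
          mul_inv_cancel_right]
    rw [hsgs]
    exact E.pow_congr hjk

/-- The columns at `z e^k`. -/
theorem column_zz (hM : IsPModular 2 M) (j k : ZMod 5) :
    ∑ χ ∈ blockZero (G := G) M, E.zval (χ : G → ℂ) j * conj (E.zval (χ : G → ℂ) k) =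
      if j = k then (if k = 0 then 320 else 20) else 0 := by
  classical
  letI := Fintype.ofFinite F.C
  letI := Fintype.ofFinite F.O
  rw [Finset.sum_congr rfl fun χ hχ => by
    rw [E.zval_principal hM (mem_blockZero.1 hχ), E.zval_principal hM (mem_blockZero.1 hχ)]]
  have hreg : ∀ i : ℕ, ¬ 2 ∣ orderOf (⟨E.e ^ i, pow_mem E.e_mem i⟩ : F.C) := fun i => by
    rw [← Subgroup.orderOf_coe]; exact E.pre.not_dvd_K (E.pre.pow_mem_K i)
  have h := column_count (H := F.C) (N := F.O) hM E.pre.z_pow E.pre.C_eq F.O_le_C E.pre.C_norm_O E.pre.not_dvd_O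
    (E.pre.full_z hM) (hreg j.val) (hreg k.val)
  have hcard : (Finset.univ.filter fun h : F.C => (E.e ^ j.val)⁻¹ * ((h : G) * E.e ^ k.val * (h : G)⁻¹) ∈ F.O).card =
      (if j = k then (if k = 0 then 320 else 20) else 0) * Nat.card F.O := by
    rw [← Fintype.card_subtype, ← Nat.card_eq_fintype_card]
    rw [← Nat.card_congr ((Equiv.ofBijective _ E.coord_bijective).subtypeEquiv
      (p := fun q => j = k ∧ ((q.1 : G) ∈ F.W ∨ k = 0)) fun q => ?_)]
    · by_cases hjk : j = k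
      · subst hjk
        rw [if_pos rfl]
        by_cases hk : j = 0
        · subst hk
          rw [if_pos rfl, Nat.card_congr (Equiv.subtypeUnivEquiv fun q => ⟨rfl, Or.inr rfl⟩), Nat.card_prod,
            Nat.card_prod, Nat.card_zmod, F.ufour.card_all]
          ring
        · rw [if_neg hk]
          let e : {q : ↥(F.S : Subgroup G) × ZMod 5 × F.O // j = j ∧ ((q.1 : G) ∈ F.W ∨ j = 0)} ≃
              ↥F.W × ZMod 5 × F.O :=
            { toFun := fun q => (⟨q.1.1, q.2.2.resolve_right hk⟩, q.1.2)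
              invFun := fun q => ⟨(⟨q.1, q.1.2.1⟩, q.2), rfl, Or.inl q.1.2⟩
              left_inv := fun _ => rfl
              right_inv := fun _ => rfl }
          rw [Nat.card_congr e, Nat.card_prod, Nat.card_prod, Nat.card_zmod,
            show Nat.card F.W = 4 from F.ufour.card_cen]
          ring
      · rw [if_neg hjk, zero_mul]
        haveI : IsEmpty {q : ↥(F.S : Subgroup G) × ZMod 5 × F.O // j = k ∧ ((q.1 : G) ∈ F.W ∨ k = 0)} :=
          ⟨fun q => hjk q.2.1⟩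
        exact Nat.card_of_isEmpty
    · show _ ↔ _
      rw [Equiv.ofBijective_apply, E.coord_coe, E.conj_pow_iff q.1 _ q.2.2, Nat.mod_eq_of_lt j.val_lt,
        Nat.mod_eq_of_lt k.val_lt, (ZMod.val_injective 5).eq_iff, ZMod.val_eq_zero]
  rw [hcard, Nat.cast_mul, mul_div_assoc, div_self (Nat.cast_ne_zero.2 Nat.card_pos.ne'), mul_one] at h
  push_cast at h
  convert h using 2
  simp [blockZero]

/-- `z e^k` and `a` lie in different sections. -/
theorem column_za (hM : IsPModular 2 M) {a : G} (ha : a ∈ (F.S : Subgroup G)) (haW : a ∉ F.W) (ha2 : a * a = F.z)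
    (k : ZMod 5) : ∑ χ ∈ blockZero (G := G) M, E.zval (χ : G → ℂ) k * conj ((χ : G → ℂ) a) = 0 := by
  classical
  have hB : IsPBlock M (principalBlock M G) := isPBlock_blockOf (principal G)
  rw [Finset.sum_congr rfl fun χ hχ => by
    rw [E.zval_principal hM (mem_blockZero.1 hχ), ← IsCharacter.conj_inv (isCharacter_of_irr χ.2)]]
  have h1 : IsPPart 2 (F.z * E.e ^ k.val) F.z := isPPart_mul
    (F.mem_C.1 (pow_mem E.e_mem _)).symm E.pre.z_pow (E.pre.not_dvd_K (E.pre.pow_mem_K _))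
  have h := block_orthogonality hM hB h1 (isPPart_self Nat.prime_two (E.pre.a_pow ha))
    (E.pre.quad_not_conj_z ha haW ha2)
  convert h using 2
  simp [blockZero]

theorem no_pairs_z {k : ℕ} (hk : ¬ 5 ∣ k) {v : G} (hv : v ∈ F.O) {s s' : G} (hs : IsConj F.z s)
    (hs' : IsConj F.z s') : s * s' ≠ F.z * (E.e ^ k * v) := by
  intro h
  set y := E.e ^ k * v with hy
  have hyK : y ∈ E.pre.K := ⟨k, v, hv, rfl⟩
  have hyC : y ∈ F.C := E.pre.K_le_C hyK
  have hinvol : ∀ w : G, IsConj F.z w → w * w = 1 := by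
    rintro w hw
    obtain ⟨g, rfl⟩ := isConj_iff.1 hw
    rw [show g * F.z * g⁻¹ * (g * F.z * g⁻¹) = g * (F.z * F.z) * g⁻¹ by group, F.z_sq, mul_one, mul_inv_cancel]
  have hsi : s⁻¹ = s := inv_eq_of_mul_eq_one_right (hinvol s hs)
  have hsi' : s'⁻¹ = s' := inv_eq_of_mul_eq_one_right (hinvol s' hs')
  have hinv : s * (F.z * y) * s⁻¹ = (F.z * y)⁻¹ := by
    rw [← h, mul_inv_rev, hsi, hsi']
    calc s * (s * s') * s = s * s * (s' * s) := by group
      _ = s' * s := by rw [hinvol s hs, one_mul]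
  have hzy : Commute F.z y := (F.mem_C.1 hyC).symm
  have hodd := E.pre.not_dvd_K hyK
  have hp : IsPPart 2 (F.z * y) F.z := isPPart_mul hzy E.pre.z_pow hodd
  have hp' : IsPPart 2 (F.z * y)⁻¹ F.z :=
    ⟨y⁻¹, by rw [mul_inv_rev F.z y, F.z_inv, hzy.inv_right.eq], hzy.inv_right, E.pre.z_pow, by rwa [orderOf_inv]⟩
  have hsz : s * F.z * s⁻¹ = F.z := IsPPart.eq Nat.prime_two (hinv ▸ IsPPart.conj hp s) hp'
  have hsC : s ∈ F.C := F.mem_C.2 (mul_inv_eq_iff_eq_mul.1 hsz)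
  have hsy : s * y * s⁻¹ = y⁻¹ := by
    have e : s * (F.z * y) * s⁻¹ = (s * F.z * s⁻¹) * (s * y * s⁻¹) := by group
    rw [e, hsz, mul_inv_rev, F.z_inv, ← hzy.inv_right.eq] at hinv
    exact mul_left_cancel hinv
  -- commutators with `O ⟨e⟩` lie in `S O`
  obtain ⟨r, hr, i, u, hu, rfl⟩ := E.pre.cover' hsC
  set c := E.pre.e ^ i * u with hc
  have hcK : c ∈ E.pre.K := ⟨i, u, hu, rfl⟩
  have hrSO : r ∈ F.SO := ⟨r, hr, 1, one_mem _, by simp⟩
  have hcomm : r * c * y * (r * c)⁻¹ * y⁻¹ ∈ F.SO := by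
    rw [show r * c * y * (r * c)⁻¹ * y⁻¹ = r * (c * y * c⁻¹ * y⁻¹) * (y * r⁻¹ * y⁻¹) by group]
    refine mul_mem (mul_mem hrSO ⟨1, one_mem _, _, E.pre.K_K hcK hyK, (one_mul _).symm⟩) ?_
    exact E.pre.conj_mem_SO hyC (inv_mem hrSO)
  rw [show r * c = r * E.pre.e ^ i * u from (mul_assoc _ _ _).symm, hsy, ← mul_inv_rev] at hcomm
  obtain ⟨t, ht, o, ho, he⟩ := inv_mem hcomm
  rw [inv_inv] at he
  have ht1 : t = 1 := E.pre.eq_one_of_S_K ht (by
    rw [show t = y * y * o⁻¹ by rw [he]; group]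
    exact mul_mem (mul_mem hyK hyK) (E.pre.O_le_K (inv_mem ho)))
  rw [ht1, one_mul] at he
  obtain ⟨m, hm⟩ := E.pre.odd_of_mem_K hyK
  have hyO : y ∈ F.O := by
    rw [show y = (y * y) ^ (m + 1) by
      rw [← pow_two, ← pow_mul, show 2 * (m + 1) = orderOf y + 1 by omega, pow_succ, pow_orderOf_eq_one, one_mul],
      he]
    exact pow_mem ho _
  refine hk ((E.pow_mem_O_iff k).1 ?_)
  rw [show E.e ^ k = y * v⁻¹ by rw [hy, mul_inv_cancel_right]]
  exact mul_mem hyO (inv_mem hv)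

/-- The class identity at `z e^k`, `k ≠ 0`. -/
theorem count_zk (hM : IsPModular 2 M) {k : ZMod 5} (hk : k ≠ 0) :
    ∑ χ ∈ blockZero (G := G) M,
      (χ : G → ℂ) F.z * (χ : G → ℂ) F.z * conj (E.zval (χ : G → ℂ) k) / (χ : G → ℂ) 1 = 0 := by
  classical
  letI := Fintype.ofFinite F.O
  obtain ⟨hK, hG⟩ : (Nat.card {x : G // IsConj F.z x} : ℂ) ≠ 0 ∧ (Nat.card G : ℂ) ≠ 0 := by
    haveI : Nonempty {x : G // IsConj F.z x} := ⟨⟨_, IsConj.refl _⟩⟩
    exact ⟨Nat.cast_ne_zero.2 Nat.card_pos.ne', Nat.cast_ne_zero.2 Nat.card_pos.ne'⟩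
  have hk5 : ¬ 5 ∣ k.val := fun h => hk ((ZMod.val_eq_zero k).1 (Nat.eq_zero_of_dvd_of_lt h k.val_lt))
  have hv0 : ∀ v : F.O, ∑ χ : IrrCharacter G, (χ : G → ℂ) F.z * (χ : G → ℂ) F.z *
      conj ((χ : G → ℂ) (F.z * (E.e ^ k.val * v))) / (χ : G → ℂ) 1 = 0 := by
    intro v
    have h := class_mult_formula F.z F.z (F.z * (E.e ^ k.val * (v : G)))
    haveI : IsEmpty {q : G × G // IsConj F.z q.1 ∧ IsConj F.z q.2 ∧ q.1 * q.2 = F.z * (E.e ^ k.val * (v : G))} :=
      ⟨fun q => E.no_pairs_z hk5 v.2 q.2.1 q.2.2.1 q.2.2.2⟩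
    rw [Nat.card_of_isEmpty, Nat.cast_zero] at h
    exact (mul_eq_zero.1 h.symm).resolve_left (div_ne_zero (mul_ne_zero hK hK) hG)
  have h2 := (Finset.sum_eq_zero fun v (_ : v ∈ (Finset.univ : Finset F.O)) => hv0 v)
  rw [Finset.sum_comm] at h2
  have hN0 : (Nat.card F.O : ℂ) ≠ 0 := Nat.cast_ne_zero.2 Nat.card_pos.ne'
  refine (mul_eq_zero.1 (Eq.trans ?_ h2)).resolve_left hN0
  rw [Finset.mul_sum, ← Finset.sum_subset (Finset.subset_univ (blockZero (G := G) M)) (f := fun χ : IrrCharacter G =>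
    ∑ v : F.O, (χ : G → ℂ) F.z * (χ : G → ℂ) F.z * conj ((χ : G → ℂ) (F.z * (E.e ^ k.val * v))) / (χ : G → ℂ) 1)]
  · refine Finset.sum_congr rfl fun χ _ => ?_
    rw [← Finset.sum_div, ← Finset.mul_sum, ← map_sum, E.zval_eq, map_mul, map_inv₀, Complex.conj_natCast]
    field_simp
  · intro χ _ hχ
    rw [← Finset.sum_div, ← Finset.mul_sum, ← map_sum,
      show (∑ v : F.O, (χ : G → ℂ) (F.z * (E.e ^ k.val * v))) = 0 from
        E.pre.sum_z_zero hM (fun h => hχ (mem_blockZero.2 h)) k.val, map_zero, mul_zero, zero_div]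

end Frame.Five

end Cfsg.Lib.Lyons
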