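import Cfsg.Agent.Lyons.Chars.Free

/-!
`J = 1`: unless the linear character has order 3, 5, 7 or 9, the row is repeated at least four times.
-/

set_option autoImplicit false
set_option linter.unusedSectionVars false
set_option linter.style.haveILetI false

namespace Cfsg.Lib.Lyons

open Subgroup Cfsg.Lib.BenderSE.Ring2 Cfsg.Lib.Chars Cfsg.Lib.Blocks
open scoped ComplexConjugate

universe u

variable {G : Type u} [Group G] [Finite G]

/-- Seven units modulo an odd number from `11` on. -/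
def seven : Fin 7 → ℤ := ![1, -1, 2, -2, 4, -4, 8]

theorem seven_inj {m : ℕ} (hm : 11 ≤ m) (hodd : Odd m) {i j : Fin 7}
    (h : ((seven i : ℤ) : ZMod m) = ((seven j : ℤ) : ZMod m)) : i = j := by
  by_contra hij
  have key : ∀ i j : Fin 7, i ≠ j →
      (seven i - seven j).natAbs ≠ 0 ∧ (seven i - seven j).natAbs ≤ 12 ∧ (seven i - seven j).natAbs ≠ 11 := by decide
  obtain ⟨h0, h12, h11⟩ := key i j hij
  have hd : m ∣ (seven i - seven j).natAbs := by
    rw [← Int.natCast_dvd, ← ZMod.intCast_zmod_eq_zero_iff_dvd, Int.cast_sub, h, sub_self]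
  obtain ⟨q, hq⟩ := hd
  obtain ⟨r, hr⟩ := hodd
  rcases q with _ | _ | q
  · exact h0 (by rw [hq, mul_zero])
  · omega
  · have : m * (q + 1 + 1) ≥ m * 2 := Nat.mul_le_mul_left m (by omega)
    omega

theorem isUnit_seven {m : ℕ} (hodd : Odd m) (i : Fin 7) : IsUnit ((seven i : ℤ) : ZMod m) := by
  have h2 : IsUnit (2 : ZMod m) := ⟨ZMod.unitOfCoprime 2 (Nat.coprime_two_left.2 hodd), by simp⟩
  have h4 : IsUnit (4 : ZMod m) := by
    have := h2.mul h2
    rwa [show (2 : ZMod m) * 2 = 4 by norm_num] at this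
  have h8 : IsUnit (8 : ZMod m) := by
    have := h2.mul h4
    rwa [show (2 : ZMod m) * 4 = 8 by norm_num] at this
  fin_cases i <;> simp [seven, h2, h4, h8, IsUnit.neg_iff]

/-- An automorphism of `ℂ` rotates the fifth roots of unity. -/
theorem galConj_ev {σ : ℂ ≃+* ℂ} {N k : ℕ} (hσ : IsGalConj σ N k) (h5 : 5 ∣ N) (t : ZMod 5) :
    σ (ev t) = ev ((k : ZMod 5) * t) := by
  obtain ⟨q, rfl⟩ := h5
  rw [hσ (ev t) (by
    rw [pow_mul, ev_pow, nsmul_eq_mul, show ((5 : ℕ) : ZMod 5) = 0 from ZMod.natCast_self 5, zero_mul, ev_zero,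
      one_pow]), ev_pow, nsmul_eq_mul]

/-- The conjugate character. -/
noncomputable def mapIrr (σ : ℂ ≃+* ℂ) (χ : IrrCharacter G) : IrrCharacter G :=
  ⟨fun g => σ ((χ : G → ℂ) g), IsIrrCharacter.map_auto χ.2 σ⟩

theorem mapIrr_apply (σ : ℂ ≃+* ℂ) (χ : IrrCharacter G) (g : G) :
    (mapIrr σ χ : G → ℂ) g = σ ((χ : G → ℂ) g) := rfl

theorem mapIrr_ne_principal [Fintype G] (σ : ℂ ≃+* ℂ) {χ : IrrCharacter G} (h : χ ≠ principal G) :
    mapIrr σ χ ≠ principal G := fun e => h (Subtype.ext (funext fun g => σ.injective (by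
  rw [← mapIrr_apply, e]
  exact (map_one σ).symm)))

namespace Frame.Five

variable {F : Frame G} (E : F.Five)
include E

theorem zval_map (σ : ℂ ≃+* ℂ) (χ : IrrCharacter G) (k : ZMod 5) :
    E.zval (mapIrr σ χ : G → ℂ) k = σ (E.zval (χ : G → ℂ) k) := by
  letI := Fintype.ofFinite F.O
  rw [E.zval_eq, E.zval_eq, map_mul, map_inv₀, map_natCast, map_sum]
  rfl

theorem dC_map (σ : ℂ ≃+* ℂ) {r : ZMod 5} (hσ : ∀ t, σ (ev t) = ev (r * t)) (χ : IrrCharacter G) (b : ZMod 5) :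
    E.dC (mapIrr σ χ : G → ℂ) (r * b) = σ (E.dC (χ : G → ℂ) b) := by
  simp only [Frame.Five.dC, map_mul, map_sum, map_inv₀, map_ofNat, E.zval_map]
  congr 1
  refine Finset.sum_congr rfl fun k _ => ?_
  rw [hσ, mul_neg, mul_assoc]

theorem five_dvd_card : 5 ∣ Nat.card G := by
  obtain ⟨n, hn⟩ := E.orderOf_e
  rcases n with _ | n
  · rw [pow_zero, orderOf_eq_one_iff] at hn
    exact absurd (hn ▸ one_mem F.O) E.e_notMem
  · exact (dvd_pow_self 5 n.succ_ne_zero).trans (hn ▸ orderOf_dvd_natCard E.e)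

variable {M : Ideal AlgInt} [Fintype G]

/-- A character of the principal block does not vanish at `z`. -/
theorem apply_z_ne_zero (hM : IsPModular 2 M) {χ : IrrCharacter G} (hχ : χ ∈ principalBlock M G) :
    (χ : G → ℂ) F.z ≠ 0 := by
  intro h0
  have h : res M (centralChar ((principal G : IrrCharacter G) : G → ℂ) F.z) =
      res M (centralChar (χ : G → ℂ) F.z) := (sameBlock_iff_res hM (principal G) χ).1 hχ F.z
  rw [centralChar, centralChar, h0, mul_zero, zero_div, res_zero,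
    show ((principal G : IrrCharacter G) : G → ℂ) F.z = 1 from rfl,
    show ((principal G : IrrCharacter G) : G → ℂ) 1 = 1 from rfl, mul_one, div_one, res_natCast,
    res_natCast_eq_zero_iff hM] at h
  haveI : Fact (Nat.Prime 2) := ⟨Nat.prime_two⟩
  exact F.S.not_dvd_index (h.trans (Subgroup.index_dvd_of_le F.sylow_le_C))

/-- The constant of a row with a free orbit is positive. -/
theorem phi_ne_zero (hM : IsPModular 2 M) [Fintype F.O] {χ : IrrCharacter G} (hχ : χ ∈ principalBlock M G) :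
    F.phi (χ : G → ℂ) 1 ≠ 0 := by
  classical
  letI := Fintype.ofFinite F.C
  intro h0
  obtain ⟨m, T, -, -, hphi, -⟩ := E.pre.exists_split hM (isCharacter_of_irr χ.2)
  have hφT : ∀ c, F.phi (χ : G → ℂ) c = ∑ ψ ∈ T, (m ψ : ℂ) * (ψ : F.C → ℂ) c := hphi
  have h2 : ∑ ψ ∈ T, ((m ψ * deg (ψ : F.C → ℂ) : ℕ) : ℂ) = 0 := by
    rw [← h0, hφT]
    push_cast
    exact Finset.sum_congr rfl fun ψ _ => by rw [irr_apply_one_eq_deg]
  rw [← Nat.cast_sum, Nat.cast_eq_zero] at h2
  have hm : ∀ ψ ∈ T, m ψ = 0 := fun ψ hψ =>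
    (Nat.mul_eq_zero.1 ((Finset.sum_eq_zero_iff_of_nonneg fun _ _ => Nat.zero_le _).1 h2 ψ hψ)).resolve_right
      (deg_irr_pos ψ).ne'
  refine E.apply_z_ne_zero hM hχ ?_
  rw [← E.phi_S hM hχ ⟨F.z, F.z_mem_S⟩ (fun e => F.z_ne (congrArg Subtype.val e)), hφT]
  exact Finset.sum_eq_zero fun ψ hψ => by rw [hm ψ hψ, Nat.cast_zero, zero_mul]

/-- At least four different conjugates. -/
theorem exists_four [IsSimpleGroup G] (hgood : F.Good) (hsmall : E.SmallSpec) (hM : IsPModular 2 M) [Fintype F.O]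
    {χ : IrrCharacter G} (hχ : χ ∈ principalBlock M G) (hne : χ ≠ principal G) {n : ℕ}
    (hn : F.phi (χ : G → ℂ) 1 = (n : ℂ)) (hdeg : (χ : G → ℂ) 1 = (n : ℂ) + 64) :
    ∃ s : Finset (IrrCharacter G), 4 ≤ s.card ∧ ∀ χ' ∈ s, ∃ (σ : ℂ ≃+* ℂ) (r : (ZMod 5)ˣ),
      χ' = mapIrr σ χ ∧ ∀ t, σ (ev t) = ev ((r : ZMod 5) * t) := by
  classical
  letI := Fintype.ofFinite ↥(F.S : Subgroup G)
  letI := Fintype.ofFinite F.C
  obtain ⟨lam, hfix, hstab, hab, hchi⟩ := E.exists_free hgood hM hχ hne hn hdeg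
  have hn0 : 0 < n := Nat.pos_of_ne_zero fun e => E.phi_ne_zero hM hχ (by rw [hn, e, Nat.cast_zero])
  obtain ⟨h3, h5, h7, h9⟩ := hsmall χ lam n hab
    (fun u v huv => by rw [← hfix u]; exact congrArg lam (Subtype.ext huv.symm)) hstab hn0
    (fun u => by rw [finsum_eq_sum_of_fintype]; exact hchi u)
    (fun u => by
      have h := E.pre.apply_z hM hχ 0 u.2
      rw [pow_zero, one_mul, mul_one] at h
      exact h)
  set m := orderOf lam with hm
  have hmO : m ∣ Nat.card F.O := orderOf_dvd_of_pow_eq_one (by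
    ext u
    rw [MonoidHom.pow_apply, ← map_pow, pow_card_eq_one', map_one, MonoidHom.one_apply])
  have hmodd : Odd m := F.odd_O.of_dvd_nat hmO
  have hm1 : m ≠ 1 := by
    intro e
    rw [hm, orderOf_eq_one_iff] at e
    have hz2 := hstab ⟨F.z2, F.z2_mem.1⟩ fun u => by rw [e, MonoidHom.one_apply, MonoidHom.one_apply]
    obtain ⟨k, hk⟩ := mem_zpowers_iff.1 hz2
    change F.z ^ k = F.z2 at hk
    rcases Int.even_or_odd' k with ⟨i, rfl | rfl⟩
    · rw [zpow_mul, zpow_two, F.z_sq, one_zpow] at hk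
      exact F.z2_ne_one hk.symm
    · rw [zpow_add, zpow_mul, zpow_two, F.z_sq, one_zpow, one_mul, zpow_one] at hk
      exact F.z2_ne_z hk.symm
  have hm11 : 11 ≤ m := by
    obtain ⟨q, hq⟩ := hmodd
    omega
  set N := Nat.card G with hN
  haveI : NeZero N := ⟨Nat.card_pos.ne'⟩
  haveI : NeZero m := ⟨by omega⟩
  have hmN : m ∣ N := hmO.trans (Subgroup.card_subgroup_dvd_card F.O)
  choose k hk using fun i : Fin 7 => ZMod.unitsMap_surjective hmN (isUnit_seven hmodd i).unit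
  set kn : Fin 7 → ℕ := fun i => ((k i : (ZMod N)ˣ) : ZMod N).val
  have hkc : ∀ i, (kn i).Coprime N := fun i => ZMod.val_coe_unit_coprime (k i)
  have hkm : ∀ i, ((kn i : ℕ) : ZMod m) = ((seven i : ℤ) : ZMod m) := fun i => by
    have h := congrArg Units.val (hk i)
    rw [IsUnit.unit_spec, ZMod.unitsMap_def, Units.coe_map] at h
    rw [← h]
    show _ = ZMod.castHom hmN (ZMod m) ((k i : (ZMod N)ˣ) : ZMod N)
    rw [← ZMod.natCast_zmod_val ((k i : (ZMod N)ˣ) : ZMod N), map_natCast]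
  choose σ hσ using fun i => exists_galConj_auto (m := N) (hkc i)
  set χs : Fin 7 → IrrCharacter G := fun i => mapIrr (σ i) χ
  refine ⟨Finset.univ.image χs, ?_, fun χ' hχ' => ?_⟩
  swap
  · obtain ⟨i, -, rfl⟩ := Finset.mem_image.1 hχ'
    refine ⟨σ i, ZMod.unitOfCoprime (kn i) ((hkc i).coprime_dvd_right E.five_dvd_card), rfl, fun t => ?_⟩
    rw [ZMod.coe_unitOfCoprime, galConj_ev (hσ i) E.five_dvd_card]
  -- the values on `O`
  set L : Fin 7 → (↥F.O →* ℂˣ) := fun i => lam ^ kn i with hL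
  have hval : ∀ i (u : ↥F.O), (χs i : G → ℂ) u = (n : ℂ) + ∑ s : ↥(F.S : Subgroup G), ((L i (F.act s u) : ℂˣ) : ℂ) := by
    intro i u
    show σ i ((χ : G → ℂ) u) = _
    rw [hchi u, map_add, map_natCast, map_sum]
    congr 1
    refine Finset.sum_congr rfl fun s _ => ?_
    rw [hL, MonoidHom.pow_apply, Units.val_pow_eq_pow_val]
    refine hσ i _ ?_
    rw [← Units.val_pow_eq_pow_val, ← map_pow, show F.act s u ^ N = 1 from by
      obtain ⟨q, hq⟩ := Subgroup.card_subgroup_dvd_card F.O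
      rw [hN, hq, pow_mul, pow_card_eq_one', one_pow], map_one, Units.val_one]
  have hLinj : Function.Injective L := fun i j e => by
    refine seven_inj hm11 hmodd ?_
    rw [← hkm, ← hkm, ZMod.natCast_eq_natCast_iff]
    exact (pow_eq_pow_iff_modEq (x := lam)).1 e
  -- equal rows come from `L i` or its conjugate under `z2`
  have hact : ∀ (w : ↥(F.S : Subgroup G)), (w : G) ∈ F.W →
      ∀ u, F.act w u = u ∨ F.act w u = F.act ⟨F.z2, F.z2_mem.1⟩ u := by
    intro w hw u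
    have hz : ∀ x : G, x ∈ F.O → F.z * x * F.z⁻¹ = x := fun x hx => by rw [← F.z_comm_O hx, mul_inv_cancel_right]
    rcases F.W_cases hw with e | e | e | e
    · left; exact Subtype.ext (by show (w : G) * u * (w : G)⁻¹ = u; rw [e]; simp)
    · left; exact Subtype.ext (by show (w : G) * u * (w : G)⁻¹ = u; rw [e, hz u u.2])
    · right; exact Subtype.ext (by show (w : G) * u * (w : G)⁻¹ = F.z2 * u * F.z2⁻¹; rw [e])
    · right
      refine Subtype.ext ?_
      show (w : G) * u * (w : G)⁻¹ = F.z2 * u * F.z2⁻¹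
      rw [e, show F.z * F.z2 * (u : G) * (F.z * F.z2)⁻¹ = F.z * (F.z2 * u * F.z2⁻¹) * F.z⁻¹ by group,
        hz _ (F.conj_mem_O (F.sylow_le_C F.z2_mem.1) u.2)]
  have hclose : ∀ i j, χs i = χs j → L i = L j ∨ ∀ u, L i u = L j (F.act ⟨F.z2, F.z2_mem.1⟩ u) := by
    intro i j hij
    let act' : ↥(F.S : Subgroup G) → (↥F.O →* ℂˣ) := fun s => (L i).comp (F.actC (F.sC s))
    have heq : (∑ s, (fun u => ((act' s u : ℂˣ) : ℂ))) =
        ∑ s : ↥(F.S : Subgroup G), fun u => (((L j).comp (F.actC (F.sC s)) u : ℂˣ) : ℂ) := by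
      funext u
      rw [Finset.sum_apply, Finset.sum_apply]
      have h1 := hval i u
      rw [hij, hval j u] at h1
      exact (add_left_cancel h1).symm
    have hex : ∃ s, (fun u => ((act' s u : ℂˣ) : ℂ)) = fun u => ((L j u : ℂˣ) : ℂ) := by
      by_contra hno
      push Not at hno
      have h := congrArg (fun f => classInner f (fun u => ((L j u : ℂˣ) : ℂ))) heq
      simp only [classInner_sum_left] at h
      have hlin : ∀ f : ↥F.O →* ℂˣ, classInner (fun u => ((f u : ℂˣ) : ℂ)) (fun u => ((L j u : ℂˣ) : ℂ)) =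
          if (fun u => ((f u : ℂˣ) : ℂ)) = (fun u => ((L j u : ℂˣ) : ℂ)) then 1 else 0 := fun f => by
        have h := classInner_irrCharacter (G := ↥F.O) ⟨_, isIrrCharacter_linear f⟩ ⟨_, isIrrCharacter_linear (L j)⟩
        simp only [Subtype.mk.injEq] at h
        exact h
      simp only [hlin] at h
      rw [Finset.sum_eq_zero fun s _ => if_neg (hno s), Finset.sum_boole] at h
      have h1 : (1 : ↥(F.S : Subgroup G)) ∈ Finset.univ.filter fun s =>
          (fun u => (((L j).comp (F.actC (F.sC s)) u : ℂˣ) : ℂ)) = fun u => ((L j u : ℂˣ) : ℂ) :=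
        Finset.mem_filter.2 ⟨Finset.mem_univ _, funext fun u => by
          rw [MonoidHom.comp_apply, show F.sC 1 = 1 from Subtype.ext rfl, F.actC_one]⟩
      exact (Finset.card_pos.2 ⟨_, h1⟩).ne' (Nat.cast_eq_zero.1 h.symm)
    obtain ⟨s, hs⟩ := hex
    have hs' : ∀ u, L i (F.act s u) = L j u := fun u => Units.ext (congrFun hs u)
    have hpow : ∀ u v : ↥F.O, L i u = L i v → lam u = lam v := by
      intro u v huv
      have h1 : (lam u * (lam v)⁻¹) ^ kn i = 1 := by
        rw [mul_pow, inv_pow, mul_inv_eq_one]; exact huv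
      have h2 : (lam u * (lam v)⁻¹) ^ N = 1 := by
        rw [mul_pow, inv_pow, mul_inv_eq_one, ← map_pow, ← map_pow]
        obtain ⟨q, hq⟩ := Subgroup.card_subgroup_dvd_card F.O
        rw [hN, hq, pow_mul, pow_mul, pow_card_eq_one', pow_card_eq_one']
      exact mul_inv_eq_one.1 (orderOf_eq_one_iff.1 (Nat.eq_one_of_dvd_coprimes (hkc i)
        (orderOf_dvd_of_pow_eq_one h1) (orderOf_dvd_of_pow_eq_one h2)))
    -- `s` commutes with `e` modulo the stabiliser
    set eC0 : ↥F.C := ⟨E.e, E.e_mem⟩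
    have hLfix : ∀ l u, L l (F.actC eC0 u) = L l u := fun l u => by
      rw [hL]; simp only [MonoidHom.pow_apply]; rw [hfix u]
    have hlam : ∀ u, lam (F.act s (F.actC eC0 u)) = lam (F.act s u) := fun u =>
      hpow _ _ (by rw [hs', hs', hLfix])
    set t : ↥(F.S : Subgroup G) :=
      ⟨E.e⁻¹ * s * E.e * (s : G)⁻¹, mul_mem ((mem_normalizer_iff''.1 E.e_norm _).1 s.2) (inv_mem s.2)⟩
    have ht : (t : G) ∈ zpowers F.z := hstab t fun u => by
      have e1 : F.act t u = F.actC eC0⁻¹ (F.act s (F.actC eC0 (F.actC (F.sC s)⁻¹ u))) := Subtype.ext (by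
        show E.e⁻¹ * s * E.e * (s : G)⁻¹ * (u : G) * (E.e⁻¹ * s * E.e * (s : G)⁻¹)⁻¹ =
          E.e⁻¹ * ((s : G) * (E.e * ((s : G)⁻¹ * (u : G) * (s : G)⁻¹⁻¹) * E.e⁻¹) * (s : G)⁻¹) * E.e⁻¹⁻¹
        group)
      rw [e1, ← hfix (F.actC eC0⁻¹ _), ← F.actC_mul, mul_inv_cancel, F.actC_one, hlam, ← F.actC_sC, ← F.actC_mul,
        mul_inv_cancel, F.actC_one]
    have hsW : (s : G) ∈ F.W := by
      have htW : (t : G) ∈ F.W := zpowers_le.2 F.z_mem_W ht
      refine E.fpf (k := 1) (by norm_num) s.2 ?_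
      rw [pow_one]
      have h2 : E.e * (s : G) * E.e⁻¹ * (s : G)⁻¹ = (s : G) * (t : G)⁻¹ * (s : G)⁻¹ := by
        have e1 : (t : G) = E.e⁻¹ * s * E.e * (s : G)⁻¹ := rfl
        have e2 : E.e * (t : G) * E.e⁻¹ = (t : G) := by rw [E.e_cen _ htW, mul_inv_cancel_right]
        calc E.e * (s : G) * E.e⁻¹ * (s : G)⁻¹
            = (E.e * (E.e⁻¹ * s * E.e * (s : G)⁻¹) * E.e⁻¹)⁻¹ * 1 * 1 := by group
          _ = (t : G)⁻¹ := by rw [← e1, e2, mul_one, mul_one]
          _ = _ := by rw [cenOf_comm (inv_mem htW) s.2, mul_inv_cancel_right]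
      rw [h2, cenOf_comm (inv_mem htW) s.2, mul_inv_cancel_right]
      exact inv_mem htW
    set z2S : ↥(F.S : Subgroup G) := ⟨F.z2, F.z2_mem.1⟩
    by_cases hs1 : ∀ u, F.act s u = u
    · exact Or.inl (MonoidHom.ext fun u => by rw [← hs' u, hs1 u])
    · refine Or.inr fun u => ?_
      obtain ⟨u0, hu0⟩ := not_forall.1 hs1
      have hsz : ∀ v, F.act s v = F.act z2S v := by
        rcases F.W_cases hsW with e | e | e | e
        · exact absurd (Subtype.ext (by show (s : G) * u0 * (s : G)⁻¹ = u0; rw [e]; simp)) hu0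
        · exact absurd (Subtype.ext (by
            show (s : G) * u0 * (s : G)⁻¹ = u0
            rw [e, ← F.z_comm_O u0.2, mul_inv_cancel_right])) hu0
        · exact fun v => Subtype.ext (by show (s : G) * v * (s : G)⁻¹ = F.z2 * v * F.z2⁻¹; rw [e])
        · intro v
          refine Subtype.ext ?_
          show (s : G) * v * (s : G)⁻¹ = F.z2 * v * F.z2⁻¹
          rw [e, show F.z * F.z2 * (v : G) * (F.z * F.z2)⁻¹ = F.z * (F.z2 * v * F.z2⁻¹) * F.z⁻¹ by group,
            ← F.z_comm_O (F.conj_mem_O (F.sylow_le_C F.z2_mem.1) v.2), mul_inv_cancel_right]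
      have h := hs' (F.act z2S u)
      rw [hsz, show F.act z2S (F.act z2S u) = u from Subtype.ext (by
        show F.z2 * (F.z2 * u * F.z2⁻¹) * F.z2⁻¹ = u
        rw [show F.z2 * (F.z2 * (u : G) * F.z2⁻¹) * F.z2⁻¹ = (F.z2 * F.z2) * u * (F.z2 * F.z2)⁻¹ by group,
          F.ufour.sq_one F.z2_mem]
        simp)] at h
      exact h
  have hfib : ∀ χ' ∈ Finset.univ.image χs, (Finset.univ.filter fun i => χs i = χ').card ≤ 2 := by
    intro χ' hχ'
    obtain ⟨j, -, rfl⟩ := Finset.mem_image.1 hχ'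
    let L' : ↥F.O →* ℂˣ := (L j).comp (F.actC (F.sC ⟨F.z2, F.z2_mem.1⟩))
    refine le_trans (Finset.card_le_card_of_injOn L (t := {L j, L'}) (fun i hi => ?_) fun a _ b _ h => hLinj h)
      (Finset.card_insert_le _ _ |>.trans (by simp))
    rcases hclose i j (Finset.mem_filter.1 hi).2 with h | h
    · exact Finset.mem_insert.2 (Or.inl h)
    · exact Finset.mem_insert.2 (Or.inr (Finset.mem_singleton.2 (MonoidHom.ext h)))
  have h := Finset.card_le_mul_card_image (f := χs) Finset.univ 2 hfib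
  rw [Finset.card_univ, Fintype.card_fin] at h
  omega

end Frame.Five

end Cfsg.Lib.Lyons
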