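import Cfsg.Agent.Lyons.ArithSpec
import Cfsg.Agent.Lyons.OrbitSpec
import Cfsg.Agent.Lyons.Chars.Repeat

/-!
`E = C₅`: the arithmetic data of the non-principal rows.
-/

set_option autoImplicit false
set_option linter.unusedSectionVars false
set_option linter.style.haveILetI false

namespace Cfsg.Lib.Lyons

open Subgroup Cfsg.Lib.BenderSE.Ring2 Cfsg.Lib.Chars Cfsg.Lib.Blocks
open scoped ComplexConjugate

universe u

variable {G : Type u} [Group G] [Finite G]

theorem sum_erase_principal [Fintype G] [DecidableEq (IrrCharacter G)] {M : Ideal AlgInt}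
    (hM : IsPModular 2 M) (f : IrrCharacter G → ℂ) :
    ∑ i : (blockZero (G := G) M).erase (principal G), f i = ∑ χ ∈ blockZero (G := G) M, f χ - f (principal G) := by
  rw [Finset.sum_coe_sort ((blockZero (G := G) M).erase (principal G)) f,
    ← Finset.add_sum_erase _ f (mem_blockZero.2 (mem_blockOf_self hM (principal G)))]
  ring

namespace Frame.Five

variable {F : Frame G} (E : F.Five)
include E

variable {M : Ideal AlgInt} [Fintype G]

/-- The inner products of the multiplicities. -/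
theorem column_dd (hM : IsPModular 2 M) (b c : ZMod 5) :
    ∑ χ ∈ blockZero (G := G) M, E.dC (χ : G → ℂ) b * conj (E.dC (χ : G → ℂ) c) = 12 + if b = c then 4 else 0 := by
  classical
  have e : ∀ χ : IrrCharacter G, E.dC (χ : G → ℂ) b * conj (E.dC (χ : G → ℂ) c) =
      ∑ k : ZMod 5, ∑ j : ZMod 5,
        (25 : ℂ)⁻¹ * (ev (-(b * k)) * ev (c * j)) * (E.zval (χ : G → ℂ) k * conj (E.zval (χ : G → ℂ) j)) := by
    intro χ
    simp only [Frame.Five.dC, map_mul, map_sum, map_inv₀, map_ofNat, ev_conj, neg_neg, Finset.mul_sum,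
      Finset.sum_mul]
    rw [Finset.sum_comm]
    exact Finset.sum_congr rfl fun k _ => Finset.sum_congr rfl fun j _ => by ring
  have e2 : ∀ k : ZMod 5, ∑ j : ZMod 5,
      ∑ χ ∈ blockZero (G := G) M,
        (25 : ℂ)⁻¹ * (ev (-(b * k)) * ev (c * j)) * (E.zval (χ : G → ℂ) k * conj (E.zval (χ : G → ℂ) j)) =
      (25 : ℂ)⁻¹ * (20 * ev (k * (c - b)) + if k = 0 then 300 else 0) := by
    intro k
    simp only [← Finset.mul_sum, E.column_zz hM k, mul_ite, mul_zero, Finset.sum_ite_eq, Finset.mem_univ, if_true]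
    rw [← ev_add, show -(b * k) + c * k = k * (c - b) by ring]
    by_cases hk : k = 0
    · subst hk
      rw [if_pos rfl, if_pos rfl, zero_mul, ev_zero]
      norm_num
    · rw [if_neg hk, if_neg hk]
      ring
  rw [Finset.sum_congr rfl fun χ _ => e χ, Finset.sum_comm,
    Finset.sum_congr rfl fun k _ => Finset.sum_comm.trans (e2 k), ← Finset.mul_sum, Finset.sum_add_distrib,
    ← Finset.mul_sum, ev_sum, Finset.sum_ite_eq', if_pos (Finset.mem_univ _)]
  simp only [sub_eq_zero, eq_comm (a := c)]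
  split_ifs <;> norm_num

/-- The class identity, transformed. -/
theorem count_dC (hM : IsPModular 2 M) (b : ZMod 5) :
    ∑ χ ∈ blockZero (G := G) M,
        (χ : G → ℂ) F.z * (χ : G → ℂ) F.z * conj (E.dC (χ : G → ℂ) b) / (χ : G → ℂ) 1 =
      5⁻¹ * ∑ χ ∈ blockZero (G := G) M,
        (χ : G → ℂ) F.z * (χ : G → ℂ) F.z * conj (E.zval (χ : G → ℂ) 0) / (χ : G → ℂ) 1 := by
  classical
  simp only [Frame.Five.dC, map_mul, map_sum, map_inv₀, map_ofNat, ev_conj, neg_neg, Finset.mul_sum,
    Finset.sum_div]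
  rw [Finset.sum_comm, Finset.sum_eq_single (0 : ZMod 5)]
  · refine Finset.sum_congr rfl fun χ _ => ?_
    rw [mul_zero, ev_zero]; ring
  · intro k _ hk
    rw [Finset.sum_congr rfl (g := fun χ : IrrCharacter G => 5⁻¹ * ev (b * k) *
      ((χ : G → ℂ) F.z * (χ : G → ℂ) F.z * conj (E.zval (χ : G → ℂ) k) / (χ : G → ℂ) 1)) fun χ _ => by ring,
      ← Finset.mul_sum, E.count_zk hM hk, mul_zero]
  · exact fun h => absurd (Finset.mem_univ _) h

/-- The rows, with the relations of the moved parts. -/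
theorem exists_rows_orbit [IsSimpleGroup G] (hgood : F.Good) (hM : IsPModular 2 M) :
    ∃ (ι : Type u) (_ : Fintype ι), Nonempty (RowsOrbit ι) := by
  classical
  letI := Fintype.ofFinite F.O
  obtain ⟨a, ha, haW, ha2⟩ := F.exists_quad
  set B := (blockZero (G := G) M).erase (principal G) with hB
  choose d hd using fun χ : IrrCharacter G => E.exists_int_dC χ
  choose p hp using fun χ : IrrCharacter G => E.pre.exists_int_quad ha haW ha2 χ
  have hmem : ∀ i : B, (i : IrrCharacter G) ∈ principalBlock M G := fun i =>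
    mem_blockZero.1 (Finset.mem_of_mem_erase i.2)
  have hne : ∀ i : B, (i : IrrCharacter G) ≠ principal G := fun i => Finset.ne_of_mem_erase i.2
  have hz : ∀ χ ∈ principalBlock M G, (χ : G → ℂ) F.z = ((∑ c, d χ c : ℤ) : ℂ) := fun χ hχ => by
    rw [← E.sum_dC_z hM hχ, Int.cast_sum]
    exact Finset.sum_congr rfl fun c _ => hd χ c
  have h1v : ∀ g, ((principal G : IrrCharacter G) : G → ℂ) g = 1 := fun g => rfl
  have hx : ∀ χ : IrrCharacter G, (χ : G → ℂ) 1 = ((deg (χ : G → ℂ) : ℕ) : ℂ) := irr_apply_one_eq_deg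
  have hmap : ∀ (σ : ℂ ≃+* ℂ) (r : ZMod 5), (∀ t, σ (ev t) = ev (r * t)) → ∀ i : B,
      ∃ hj : mapIrr σ (i : IrrCharacter G) ∈ B, deg (mapIrr σ (i : IrrCharacter G) : G → ℂ) = deg ((i : IrrCharacter G) : G → ℂ) ∧
        p (mapIrr σ (i : IrrCharacter G)) = p i ∧ ∀ b, d (mapIrr σ (i : IrrCharacter G)) (r * b) = d i b := by
    intro σ r hσ i
    refine ⟨Finset.mem_erase.2 ⟨mapIrr_ne_principal σ (hne i),
      mem_blockZero.2 (map_auto_mem_principal hM σ (hmem i))⟩, ?_, ?_, fun b => ?_⟩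
    · apply Nat.cast_injective (R := ℂ)
      rw [← hx, ← hx, mapIrr_apply, hx, map_natCast]
    · apply Int.cast_injective (α := ℂ)
      rw [← hp, ← hp, mapIrr_apply, hp, map_intCast]
    · apply Int.cast_injective (α := ℂ)
      rw [← hd, E.dC_map σ hσ, hd, map_intCast]
  have hsh := fun i : B => E.exists_shape hgood hM (hmem i) (hne i) ha haW (fun b => hd i b) (hp i)
  choose Mn R J hJ hxe hpe hR hM2 hphi using hsh
  have hev : ∃ σ : ℂ ≃+* ℂ, ∀ t, σ (ev t) = ev (2 * t) := by
    obtain ⟨σ, hσ⟩ := exists_galConj_auto (m := 5) (k := 2) (by norm_num)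
    exact ⟨σ, fun t => by simpa using galConj_ev hσ (dvd_refl 5) t⟩
  obtain ⟨σ, hσ⟩ := hev
  have hinj : Function.Injective fun i : B => (⟨mapIrr σ (i : IrrCharacter G), (hmap σ 2 hσ i).1⟩ : B) := by
    intro i k h
    refine Subtype.ext (Subtype.ext (funext fun g => σ.injective ?_))
    rw [← mapIrr_apply, ← mapIrr_apply]
    exact congrArg (fun l : B => ((l : IrrCharacter G) : G → ℂ) g) h
  let turn : B ≃ B := Equiv.ofBijective _ (Finite.injective_iff_bijective.1 hinj)
  have hphiJ : ∀ i : B, 64 * (J i : ℂ) = ((i : IrrCharacter G) : G → ℂ) 1 - F.phi ((i : IrrCharacter G) : G → ℂ) 1 := by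
    intro i
    have h : ((deg ((i : IrrCharacter G) : G → ℂ) : ℤ) : ℂ) =
        (((∑ c, d i c) + 16 * Mn i + 64 * J i : ℤ) : ℂ) := congrArg _ (hxe i)
    rw [hx, hphi i]
    push_cast at h ⊢
    rw [h]; ring
  have hturnJ : ∀ i, J (turn i) = J i := by
    intro i
    have h1 := hphiJ (turn i)
    have h2 := congrArg σ (hphiJ i)
    have h3 : ∀ g, ((turn i : B) : IrrCharacter G).1 g = σ (((i : IrrCharacter G) : G → ℂ) g) := fun g => rfl
    simp only [map_mul, map_natCast, map_ofNat, map_sub, Frame.phi, map_inv₀, map_sum] at h2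
    simp only [Frame.phi, h3] at h1
    rw [← h2] at h1
    exact Nat.cast_injective (R := ℂ) (mul_left_cancel₀ (by norm_num) h1)
  have hmoved : ∀ (c : IrrCharacter G → ℂ),
      (∀ u : F.O, ∑ χ ∈ blockZero (G := G) M, c χ * conj ((χ : G → ℂ) u) = 0) →
      ∑ i : B, c i * (J i : ℂ) = 0 := by
    intro c hc
    have h0 : ∑ χ ∈ blockZero (G := G) M, c χ * conj ((χ : G → ℂ) 1 - F.phi (χ : G → ℂ) 1) = 0 := by
      simp only [map_sub, mul_sub, Finset.sum_sub_distrib, Frame.phi, map_mul, map_sum, Finset.mul_sum,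
        OneMemClass.coe_one, one_mul]
      rw [show (∑ χ ∈ blockZero (G := G) M, c χ * conj ((χ : G → ℂ) 1)) = 0 from hc 1, zero_sub, neg_eq_zero,
        Finset.sum_comm]
      refine Finset.sum_eq_zero fun u _ => ?_
      rw [Finset.sum_congr rfl (g := fun χ : IrrCharacter G => conj ((Nat.card F.O : ℂ)⁻¹) * (c χ * conj ((χ : G → ℂ) u)))
        fun χ _ => by ring, ← Finset.mul_sum, hc u, mul_zero]
    have h1 : F.phi ((principal G : IrrCharacter G) : G → ℂ) 1 = 1 := by
      simp [Frame.phi, principal, Nat.card_eq_fintype_card, Fintype.card_ne_zero]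
    refine (mul_eq_zero.1 (?_ : (64 : ℂ) * _ = 0)).resolve_left (by norm_num)
    rw [Finset.mul_sum, Finset.sum_congr rfl (g := fun i : B =>
        c i * conj (((i : IrrCharacter G) : G → ℂ) 1 - F.phi ((i : IrrCharacter G) : G → ℂ) 1)) fun i _ => by
      rw [← hphiJ i, map_mul, map_ofNat, Complex.conj_natCast]; ring,
      sum_erase_principal hM fun χ => c χ * conj ((χ : G → ℂ) 1 - F.phi (χ : G → ℂ) 1), h0, h1, h1v]
    simp
  have hnotconj : ∀ x u : G, u ∈ F.O → IsPPart 2 u 1 := fun _ u hu => by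
    have h := isPPart_mul (p := 2) (Commute.one_left u) (x := 1) ⟨0, by simp⟩
      (fun h => Nat.not_even_iff_odd.2 (F.odd_of_mem_O hu) (even_iff_two_dvd.2 h))
    rwa [one_mul] at h
  have hB1 : IsPBlock M (principalBlock M G) := isPBlock_blockOf (principal G)
  have hca : ∀ u : F.O, ∑ χ ∈ blockZero (G := G) M, (p χ : ℂ) * conj ((χ : G → ℂ) u) = 0 := by
    intro u
    rw [Finset.sum_congr rfl (g := fun χ : IrrCharacter G => (χ : G → ℂ) a * (χ : G → ℂ) (u : G)⁻¹) fun χ _ => by
      rw [hp, IsCharacter.conj_inv (isCharacter_of_irr χ.2)]]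
    have h := block_orthogonality hM hB1 (isPPart_self Nat.prime_two (E.pre.a_pow ha)) (hnotconj a u u.2)
      fun hc => haW (by rw [isConj_one_left.1 hc]; exact one_mem _)
    convert h using 2
    simp [blockZero]
  have hcd : ∀ b, ∀ u : F.O, ∑ χ ∈ blockZero (G := G) M, (d χ b : ℂ) * conj ((χ : G → ℂ) u) = 0 := by
    intro b u
    simp only [← hd, Frame.Five.dC, Finset.mul_sum, Finset.sum_mul]
    rw [Finset.sum_comm]
    refine Finset.sum_eq_zero fun k _ => ?_
    simp only [mul_assoc]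
    rw [← Finset.mul_sum, ← Finset.mul_sum, mul_eq_zero, mul_eq_zero]
    refine Or.inr (Or.inr ?_)
    rw [Finset.sum_congr rfl (g := fun χ : IrrCharacter G => (χ : G → ℂ) (F.z * E.e ^ k.val) * (χ : G → ℂ) (u : G)⁻¹)
      fun χ hχ => by
        rw [E.zval_principal hM (mem_blockZero.1 hχ), IsCharacter.conj_inv (isCharacter_of_irr χ.2)]]
    have h1 : IsPPart 2 (F.z * E.e ^ k.val) F.z := isPPart_mul
      (F.mem_C.1 (pow_mem E.e_mem _)).symm E.pre.z_pow (E.pre.not_dvd_K (E.pre.pow_mem_K _))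
    have h := block_orthogonality hM hB1 h1 (hnotconj a u u.2) fun hc => F.z_ne (isConj_one_left.1 hc)
    convert h using 2
    simp [blockZero]
  have hdeg : ∀ c : IrrCharacter G → ℂ,
      (∀ u : F.O, ∑ χ ∈ blockZero (G := G) M, c χ * conj ((χ : G → ℂ) u) = 0) →
      ∑ i : B, (deg ((i : IrrCharacter G) : G → ℂ) : ℂ) * c i = -c (principal G) := by
    intro c hc
    rw [sum_erase_principal hM fun χ => (deg (χ : G → ℂ) : ℂ) * c χ, ← hx, h1v,
      Finset.sum_congr rfl (g := fun χ : IrrCharacter G => c χ * conj ((χ : G → ℂ) 1)) fun χ _ => by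
        rw [hx, Complex.conj_natCast, mul_comm],
      show (∑ χ ∈ blockZero (G := G) M, c χ * conj ((χ : G → ℂ) 1)) = 0 from hc 1, one_mul, zero_sub]
  refine ⟨B, inferInstance, ⟨{
    x := fun i => deg ((i : IrrCharacter G) : G → ℂ)
    p := fun i => p i
    d := fun i b => d i b
    J := J
    turn := turn
    orth_pp := ?_
    orth_dd := ?_
    orth_pd := ?_
    count_a := ?_
    count_z := ?_
    turn_spec := fun i => ?_
    moved_p := ?_
    moved_d := fun b => ?_
    deg_p := ?_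
    deg_d := fun b => ?_
    shape := fun i => ⟨hJ i, Mn i, R i, hxe i, hpe i, hR i, hM2 i⟩ }⟩⟩
  · apply Int.cast_injective (α := ℂ)
    push_cast
    have h := E.pre.column_aa hM ha haW ha2
    rw [sum_erase_principal hM fun χ => (p χ : ℂ) * (p χ : ℂ), ← hp, h1v,
      Finset.sum_congr rfl (g := fun χ : IrrCharacter G => (χ : G → ℂ) a * conj ((χ : G → ℂ) a))
        fun χ _ => by rw [hp, map_intCast], h]
    norm_num
  · intro b c
    apply Int.cast_injective (α := ℂ)
    push_cast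
    rw [sum_erase_principal hM fun χ => (d χ b : ℂ) * (d χ c : ℂ), ← hd, ← hd, E.dC_principal, E.dC_principal,
      Finset.sum_congr rfl (g := fun χ : IrrCharacter G => E.dC (χ : G → ℂ) b * conj (E.dC (χ : G → ℂ) c))
        fun χ _ => by rw [hd, hd, map_intCast], E.column_dd hM]
    congr 1
    by_cases hb : b = 0 <;> by_cases hc : c = 0 <;> simp [hb, hc]
  · intro b
    apply Int.cast_injective (α := ℂ)
    push_cast
    have h : ∑ χ ∈ blockZero (G := G) M, E.dC (χ : G → ℂ) b * conj ((χ : G → ℂ) a) = 0 := by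
      simp only [Frame.Five.dC, Finset.mul_sum, Finset.sum_mul]
      rw [Finset.sum_comm]
      refine Finset.sum_eq_zero fun k _ => ?_
      simp only [mul_assoc]
      rw [← Finset.mul_sum, ← Finset.mul_sum, E.column_za hM ha haW ha2, mul_zero, mul_zero]
    rw [sum_erase_principal hM fun χ => (p χ : ℂ) * (d χ b : ℂ), ← hp, h1v, ← hd, E.dC_principal,
      Finset.sum_congr rfl (g := fun χ : IrrCharacter G => E.dC (χ : G → ℂ) b * conj ((χ : G → ℂ) a))
        fun χ _ => by rw [hp, hd, map_intCast, mul_comm], h, one_mul, zero_sub]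
    split_ifs <;> norm_num
  · apply Rat.cast_injective (α := ℂ)
    push_cast
    rw [sum_erase_principal hM fun χ => (∑ c, (d χ c : ℂ)) ^ 2 * (p χ : ℂ) / (deg (χ : G → ℂ) : ℂ),
      ← hp, ← hx, h1v, h1v, Finset.sum_congr rfl fun c _ => (hd (principal G) c).symm,
      Finset.sum_congr rfl fun c _ => E.dC_principal c,
      Finset.sum_congr rfl (g := fun χ : IrrCharacter G =>
        (χ : G → ℂ) F.z * (χ : G → ℂ) F.z * (χ : G → ℂ) a / (χ : G → ℂ) 1) fun χ hχ => by
          rw [hp, hx, hz χ (mem_blockZero.1 hχ)]; push_cast; ring,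
      E.pre.count_quad hM ha haW ha2]
    norm_num
  · intro b hb
    apply Rat.cast_injective (α := ℂ)
    push_cast
    have h : ∑ χ ∈ blockZero (G := G) M,
        ((χ : G → ℂ) F.z * (χ : G → ℂ) F.z * conj (E.dC (χ : G → ℂ) b) / (χ : G → ℂ) 1 -
          (χ : G → ℂ) F.z * (χ : G → ℂ) F.z * conj (E.dC (χ : G → ℂ) 0) / (χ : G → ℂ) 1) = 0 := by
      rw [Finset.sum_sub_distrib, E.count_dC hM b, E.count_dC hM 0, sub_self]
    rw [sum_erase_principal hM fun χ => (∑ c, (d χ c : ℂ)) ^ 2 * ((d χ b : ℂ) - d χ 0) / (deg (χ : G → ℂ) : ℂ),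
      ← hd, ← hd, ← hx, h1v, Finset.sum_congr rfl fun c _ => (hd (principal G) c).symm,
      Finset.sum_congr rfl fun c _ => E.dC_principal c, E.dC_principal, E.dC_principal, if_neg hb,
      Finset.sum_congr rfl (g := fun χ : IrrCharacter G =>
        (χ : G → ℂ) F.z * (χ : G → ℂ) F.z * conj (E.dC (χ : G → ℂ) b) / (χ : G → ℂ) 1 -
          (χ : G → ℂ) F.z * (χ : G → ℂ) F.z * conj (E.dC (χ : G → ℂ) 0) / (χ : G → ℂ) 1) fun χ hχ => by
          rw [hd, hd, map_intCast, map_intCast, hx, hz χ (mem_blockZero.1 hχ)]; push_cast; ring,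
      h]
    norm_num
  · obtain ⟨hj, h1, h2, h3⟩ := hmap σ 2 hσ i
    exact ⟨h1, h2, hturnJ i, h3⟩
  · apply Int.cast_injective (α := ℂ)
    push_cast
    rw [Finset.sum_congr rfl (g := fun i : B => (p i : ℂ) * (J i : ℂ)) fun i _ => mul_comm _ _]
    exact hmoved _ hca
  · apply Int.cast_injective (α := ℂ)
    push_cast
    rw [Finset.sum_congr rfl (g := fun i : B => (d i b : ℂ) * (J i : ℂ)) fun i _ => mul_comm _ _]
    exact hmoved _ (hcd b)
  · apply Int.cast_injective (α := ℂ)
    push_cast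
    rw [hdeg _ hca, ← hp, h1v]
  · apply Int.cast_injective (α := ℂ)
    push_cast
    rw [hdeg _ (hcd b), ← hd, E.dC_principal]
    split_ifs <;> simp

/-- No configuration with `E = C₅`. -/
theorem absurd_of_orbit [IsSimpleGroup G] (hgood : F.Good) (horb : OrbitSpec.{u}) : False := by
  obtain ⟨M, hM⟩ := exists_isPModular Nat.prime_two
  obtain ⟨ι, inst, ⟨R⟩⟩ := E.exists_rows_orbit hgood hM
  exact @horb ι inst R

end Frame.Five

end Cfsg.Lib.Lyons
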