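import Cfsg.Agent.Lyons.Chars.Shape
import Cfsg.Agent.Chars.AbelianInertia

/-!
`J = 1`: the moved part of the row is one free orbit of a linear character fixed by `e`, and `O` is abelian.
-/

set_option autoImplicit false
set_option linter.unusedSectionVars false
set_option linter.style.haveILetI false

namespace Cfsg.Lib.Lyons

open Subgroup Cfsg.Lib.BenderSE.Ring2 Cfsg.Lib.Chars Cfsg.Lib.Blocks
open scoped ComplexConjugate

universe u

variable {G : Type u} [Group G] [Finite G]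

namespace Frame

variable (F : Frame G)

/-- Conjugation by an element of `C` on `O`. -/
def actC (c : ↥F.C) : ↥F.O →* ↥F.O where
  toFun u := ⟨(c : G) * u * (c : G)⁻¹, F.conj_mem_O c.2 u.2⟩
  map_one' := Subtype.ext (by simp)
  map_mul' u v := Subtype.ext (by simp [mul_assoc])

theorem actC_coe (c : ↥F.C) (u : ↥F.O) : ((F.actC c u : ↥F.O) : G) = (c : G) * u * (c : G)⁻¹ := rfl

theorem actC_mul (c d : ↥F.C) (u : ↥F.O) : F.actC (c * d) u = F.actC c (F.actC d u) :=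
  Subtype.ext (by simp [actC_coe, mul_assoc])

theorem actC_one (u : ↥F.O) : F.actC 1 u = u := Subtype.ext (by simp [actC_coe])

theorem actC_sC (s : ↥(F.S : Subgroup G)) (u : ↥F.O) : F.actC (F.sC s) u = F.act s u := rfl

/-- A character of `O` conjugated by an element of `C`. -/
def conjO (c : ↥F.C) (θ : IrrCharacter ↥F.O) : IrrCharacter ↥F.O :=
  ⟨fun u => (θ : ↥F.O → ℂ) (F.actC c u), IsIrrCharacter.comp_surjective θ.2 (F.actC c) fun v =>
    ⟨F.actC c⁻¹ v, by rw [← F.actC_mul, mul_inv_cancel, F.actC_one]⟩⟩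

theorem conjO_mul (c d : ↥F.C) (θ : IrrCharacter ↥F.O) : F.conjO d (F.conjO c θ) = F.conjO (c * d) θ :=
  Subtype.ext (funext fun u => congrArg (θ : ↥F.O → ℂ) (F.actC_mul c d u).symm)

theorem conjO_O (v : ↥F.O) (θ : IrrCharacter ↥F.O) : F.conjO (F.oC v) θ = θ :=
  Subtype.ext (funext fun u => (congrArg (θ : ↥F.O → ℂ) (Subtype.ext rfl)).trans (isClassFunction_irr θ u v))

theorem conjO_one (θ : IrrCharacter ↥F.O) : F.conjO 1 θ = θ :=
  Subtype.ext (funext fun u => congrArg (θ : ↥F.O → ℂ) (F.actC_one u))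

/-- The stabiliser in `S`. -/
def stab (θ : IrrCharacter ↥F.O) : Subgroup G where
  carrier := {g | ∃ hg : g ∈ (F.S : Subgroup G), F.conjO (F.sC ⟨g, hg⟩) θ = θ}
  mul_mem' := by
    rintro a b ⟨ha, ha'⟩ ⟨hb, hb'⟩
    refine ⟨mul_mem ha hb, ?_⟩
    rw [show F.sC ⟨a * b, mul_mem ha hb⟩ = F.sC ⟨a, ha⟩ * F.sC ⟨b, hb⟩ from Subtype.ext rfl, ← F.conjO_mul, ha', hb']
  one_mem' := ⟨one_mem _, by rw [show F.sC ⟨1, one_mem _⟩ = 1 from Subtype.ext rfl, F.conjO_one]⟩
  inv_mem' := by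
    rintro a ⟨ha, ha'⟩
    refine ⟨inv_mem ha, ?_⟩
    conv_lhs => rw [← ha']
    rw [F.conjO_mul, show F.sC ⟨a, ha⟩ * F.sC ⟨a⁻¹, inv_mem ha⟩ = 1 from Subtype.ext (mul_inv_cancel a), F.conjO_one]

theorem mem_stab {θ : IrrCharacter ↥F.O} {g : G} :
    g ∈ F.stab θ ↔ ∃ hg : g ∈ (F.S : Subgroup G), F.conjO (F.sC ⟨g, hg⟩) θ = θ := Iff.rfl

theorem stab_le_S (θ : IrrCharacter ↥F.O) : F.stab θ ≤ (F.S : Subgroup G) := fun _ hg => (F.mem_stab.1 hg).1

theorem z_mem_stab (θ : IrrCharacter ↥F.O) : F.z ∈ F.stab θ := by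
  refine ⟨F.z_mem_S, Subtype.ext (funext fun u => congrArg (θ : ↥F.O → ℂ) (Subtype.ext ?_))⟩
  show F.z * (u : G) * F.z⁻¹ = u
  rw [← F.z_comm_O u.2, mul_inv_cancel_right]

theorem conjO_eq_iff (θ : IrrCharacter ↥F.O) (s t : ↥(F.S : Subgroup G)) :
    F.conjO (F.sC s) θ = F.conjO (F.sC t) θ ↔ (s : G) * (t : G)⁻¹ ∈ F.stab θ := by
  have e : F.sC ⟨(s : G) * (t : G)⁻¹, mul_mem s.2 (inv_mem t.2)⟩ = F.sC s * (F.sC t)⁻¹ := Subtype.ext rfl
  constructor
  · intro h
    refine ⟨mul_mem s.2 (inv_mem t.2), ?_⟩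
    rw [e, ← F.conjO_mul, h, F.conjO_mul, mul_inv_cancel, F.conjO_one]
  · rintro ⟨hm, h⟩
    rw [e] at h
    conv_rhs => rw [← h]
    rw [F.conjO_mul, inv_mul_cancel_right]

end Frame

namespace Frame.Five

variable {F : Frame G} (E : F.Five)
include E

theorem stab_extension {θ : IrrCharacter ↥F.O} (V : Subgroup G) (hV : V ≤ F.stab θ) [Fintype G]
    {ρ : ↥F.C → ℂ} (hρ : IsCharacter F.C ρ)
    (h0 : ∀ s : ↥(F.S : Subgroup G), s ≠ 1 → ∀ u : ↥F.O, ρ (F.sC s * F.oC u) = 0) [Fintype F.O] :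
    ∃ n : ℕ, classInner (fun u : ↥F.O => ρ (F.oC u)) (θ : ↥F.O → ℂ) = (n * Nat.card V : ℕ) := by
  classical
  have hVS : V ≤ (F.S : Subgroup G) := hV.trans (F.stab_le_S θ)
  let Γ : Subgroup G :=
    { carrier := {c | ∃ v ∈ V, ∃ u ∈ F.O, c = v * u}
      mul_mem' := by
        rintro _ _ ⟨s, hs, u, hu, rfl⟩ ⟨t, ht, v, hv, rfl⟩
        refine ⟨s * t, mul_mem hs ht, t⁻¹ * u * t⁻¹⁻¹ * v,
          mul_mem (F.conj_mem_O (inv_mem (F.sylow_le_C (hVS ht))) hu) hv, ?_⟩
        group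
      one_mem' := ⟨1, one_mem _, 1, one_mem _, by simp⟩
      inv_mem' := by
        rintro _ ⟨s, hs, u, hu, rfl⟩
        refine ⟨s⁻¹, inv_mem hs, s * u⁻¹ * s⁻¹, F.conj_mem_O (F.sylow_le_C (hVS hs)) (inv_mem hu), ?_⟩
        group }
  have hΓC : Γ ≤ F.C := by
    rintro _ ⟨v, hv, u, hu, rfl⟩
    exact mul_mem (F.sylow_le_C (hVS hv)) (F.O_le_C hu)
  have hOΓ : F.O ≤ Γ := fun u hu => ⟨1, one_mem _, u, hu, (one_mul u).symm⟩
  letI := Fintype.ofFinite V
  letI := Fintype.ofFinite Γ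
  set N : Subgroup Γ := F.O.subgroupOf Γ
  haveI hN : N.Normal := ⟨fun x hx g => F.conj_mem_O (hΓC g.2) hx⟩
  let eN : N ≃* ↥F.O := subgroupOfEquivOfLe hOΓ
  let cd : ↥V × ↥F.O → Γ := fun q => ⟨(q.1 : G) * q.2, q.1, q.1.2, q.2, q.2.2, rfl⟩
  have hcd : Function.Bijective cd := by
    constructor
    · rintro ⟨v, u⟩ ⟨v', u'⟩ h
      have h1 : (v : G) * u = (v' : G) * u' := congrArg Subtype.val h
      have hv : (v : G) = v' := E.pre.S_eq (hVS v.2) (hVS v'.2) (E.pre.O_le_K (by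
        rw [show (v' : G)⁻¹ * v = u' * (u : G)⁻¹ by rw [eq_mul_inv_iff_mul_eq, mul_assoc, h1, inv_mul_cancel_left]]
        exact mul_mem u'.2 (inv_mem u.2)))
      rw [hv, mul_right_inj] at h1
      exact Prod.ext (Subtype.ext hv) (Subtype.ext h1)
    · rintro ⟨c, v, hv, u, hu, rfl⟩
      exact ⟨(⟨v, hv⟩, ⟨u, hu⟩), rfl⟩
  have hcard : Nat.card Γ = Nat.card V * Nat.card F.O := by
    rw [← Nat.card_eq_of_bijective cd hcd, Nat.card_prod]
  have hNO : Nat.card N = Nat.card F.O := Nat.card_congr eN.toEquiv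
  have hidx : N.index = Nat.card V := by
    have h := N.card_mul_index
    rw [hNO, hcard, mul_comm] at h
    exact Nat.eq_of_mul_eq_mul_right Nat.card_pos h
  set θN : N → ℂ := fun n => (θ : ↥F.O → ℂ) (eN n)
  have hθN : IsIrrCharacter N θN := IsIrrCharacter.comp_surjective θ.2 eN.toMonoidHom eN.surjective
  have hinv : ∀ g : Γ, conjN N g θN = θN := by
    rintro ⟨_, v, hv, u, hu, rfl⟩
    obtain ⟨hvS, hvθ⟩ := hV hv
    funext n
    show (θ : ↥F.O → ℂ) (eN ⟨_, _⟩) = (θ : ↥F.O → ℂ) (eN n)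
    have h := congrArg (fun η : IrrCharacter ↥F.O => (η : ↥F.O → ℂ) (eN n))
      ((F.conjO_mul (F.sC ⟨v, hvS⟩) (F.oC ⟨u, hu⟩) θ).symm.trans (by rw [hvθ, F.conjO_O]))
    refine Eq.trans (congrArg (θ : ↥F.O → ℂ) (Subtype.ext ?_)) h
    show v * u * ((n : Γ) : G) * (v * u)⁻¹ = _
    rfl
  have hcop : (Nat.card N).Coprime N.index := by
    rw [hNO, hidx]
    haveI : Fact (Nat.Prime 2) := ⟨Nat.prime_two⟩
    obtain ⟨k, hk⟩ := (F.S.2.to_le hVS : IsPGroup 2 V).exists_card_eq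
    rw [hk]
    exact (Nat.coprime_two_right.2 F.odd_O).pow_right k
  obtain ⟨ξ, hξ, hξN⟩ := exists_extension_of_coprime_index N hθN hinv hcop
  obtain ⟨n, hn⟩ := IsCharacter.exists_mult (IsCharacter.comp_hom hρ (Subgroup.inclusion hΓC)) hξ
  refine ⟨n, ?_⟩
  rw [classInner_def, ← Fintype.sum_bijective cd hcd (fun q => ρ (Subgroup.inclusion hΓC (cd q)) * conj (ξ (cd q))) _
    (fun _ => rfl), Fintype.sum_prod_type, Finset.sum_eq_single (1 : ↥V) (fun v _ hv => ?_)
      (fun h => absurd (Finset.mem_univ _) h), hcard] at hn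
  · rw [classInner_def, Nat.cast_mul, ← hn]
    have hV0 : (Nat.card V : ℂ) ≠ 0 := Nat.cast_ne_zero.2 Nat.card_pos.ne'
    have hsum : ∑ u : ↥F.O, ρ (Subgroup.inclusion hΓC (cd (1, u))) * conj (ξ (cd (1, u))) =
        ∑ u : ↥F.O, ρ (F.oC u) * conj ((θ : ↥F.O → ℂ) u) := by
      refine Finset.sum_congr rfl fun u _ => ?_
      have hu : cd (1, u) = ((eN.symm u : N) : Γ) := Subtype.ext (one_mul _)
      rw [hu, hξN]
      show _ * conj ((θ : ↥F.O → ℂ) (eN (eN.symm u))) = _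
      rw [eN.apply_symm_apply]
      rfl
    rw [hsum, Nat.cast_mul, mul_inv]
    field_simp
  · refine Finset.sum_eq_zero fun u _ => ?_
    rw [show Subgroup.inclusion hΓC (cd (v, u)) = F.sC ⟨v, hVS v.2⟩ * F.oC u from Subtype.ext rfl,
      h0 _ (fun e => hv (Subtype.ext (congrArg Subtype.val e : (v : G) = 1))), zero_mul]

/-- A character of degree 64 vanishing on `s O`, `1 ≠ s ∈ S`: one orbit of linear characters. -/
theorem one_orbit [Fintype G] [Fintype F.O] [Fintype ↥(F.S : Subgroup G)] {ρ : ↥F.C → ℂ}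
    (hρ : IsCharacter F.C ρ) (h1 : ρ 1 = 64)
    (h0 : ∀ s : ↥(F.S : Subgroup G), s ≠ 1 → ∀ u : ↥F.O, ρ (F.sC s * F.oC u) = 0) (θ : IrrCharacter ↥F.O)
    (hθ : classInner (fun u : ↥F.O => ρ (F.oC u)) (θ : ↥F.O → ℂ) ≠ 0) :
    (θ : ↥F.O → ℂ) 1 = 1 ∧
      (∀ u : ↥F.O, ρ (F.oC u) = ∑ s : ↥(F.S : Subgroup G), (θ : ↥F.O → ℂ) (F.act s u)) ∧
      (∀ η : IrrCharacter ↥F.O, classInner (fun u : ↥F.O => ρ (F.oC u)) (η : ↥F.O → ℂ) ≠ 0 →
        ∃ s : ↥(F.S : Subgroup G), F.conjO (F.sC s) θ = η) := by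
  classical
  set r : ↥F.O → ℂ := fun u => ρ (F.oC u) with hr
  have hrc : IsCharacter ↥F.O r := IsCharacter.comp_hom hρ (Subgroup.inclusion F.O_le_C)
  choose e he using fun η : IrrCharacter ↥F.O => IsCharacter.exists_mult hrc η.2
  set V := F.stab θ with hV
  obtain ⟨n, hn⟩ := E.stab_extension V le_rfl hρ h0 (θ := θ)
  have heθ : e θ = n * Nat.card V := Nat.cast_injective ((he θ).symm.trans hn)
  have hn1 : 1 ≤ n := by
    rcases Nat.eq_zero_or_pos n with h | h
    · exact absurd (by rw [hn, h, zero_mul, Nat.cast_zero]) hθ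
    · exact h
  have hinv : ∀ (c : ↥F.C) (η : IrrCharacter ↥F.O), e (F.conjO c η) = e η := by
    intro c η
    apply Nat.cast_injective (R := ℂ)
    rw [← he, ← he, classInner_def, classInner_def]
    congr 1
    refine Fintype.sum_bijective (F.actC c) ?_ _ _ fun u => ?_
    · exact Function.bijective_iff_has_inverse.2 ⟨F.actC c⁻¹,
        fun u => by rw [← F.actC_mul, inv_mul_cancel, F.actC_one],
        fun u => by rw [← F.actC_mul, mul_inv_cancel, F.actC_one]⟩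
    · have hcu : F.oC (F.actC c u) = c * F.oC u * c⁻¹ := Subtype.ext rfl
      show r u * conj ((η : ↥F.O → ℂ) (F.actC c u)) = r (F.actC c u) * conj ((η : ↥F.O → ℂ) (F.actC c u))
      rw [hr]
      show ρ (F.oC u) * _ = ρ (F.oC (F.actC c u)) * _
      rw [hcu, isClassFunction_isChar hρ]
  set Φ : ↥(F.S : Subgroup G) → IrrCharacter ↥F.O := fun s => F.conjO (F.sC s) θ with hΦ
  set orb := Finset.univ.image Φ with horb
  have hfib : ∀ η ∈ orb, (Finset.univ.filter fun s => Φ s = η).card = Nat.card V := by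
    intro η hη
    obtain ⟨t, -, rfl⟩ := Finset.mem_image.1 hη
    letI := Fintype.ofFinite V
    rw [Nat.card_eq_fintype_card, ← Finset.card_univ]
    symm
    refine Finset.card_bij (fun v _ => (⟨(v : G) * t, mul_mem (F.stab_le_S θ v.2) t.2⟩ : ↥(F.S : Subgroup G)))
      (fun v _ => Finset.mem_filter.2 ⟨Finset.mem_univ _, (F.conjO_eq_iff θ _ t).2 ?_⟩)
      (fun v _ v' _ h => Subtype.ext (mul_right_cancel (congrArg Subtype.val h))) fun s hs => ?_
    · show (v : G) * t * (t : G)⁻¹ ∈ _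
      rw [mul_inv_cancel_right]
      exact v.2
    · exact ⟨⟨(s : G) * (t : G)⁻¹, (F.conjO_eq_iff θ s t).1 (Finset.mem_filter.1 hs).2⟩, Finset.mem_univ _,
        Subtype.ext (inv_mul_cancel_right _ _)⟩
  have hcardorb : orb.card * Nat.card V = 64 := by
    have h := Finset.card_eq_sum_card_image Φ Finset.univ
    rw [← horb, Finset.sum_congr rfl hfib, Finset.sum_const, Finset.card_univ, ← Nat.card_eq_fintype_card,
      F.ufour.card_all, smul_eq_mul] at h
    exact h.symm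
  have hexp : ∀ u, r u = ∑ η : IrrCharacter ↥F.O, (e η : ℂ) * (η : ↥F.O → ℂ) u := fun u => by
    refine (classFunction_expand_apply (isClassFunction_isChar hrc) u).trans (Finset.sum_congr rfl fun η _ => ?_)
    rw [he]
  have h64 : ∑ η : IrrCharacter ↥F.O, e η * deg (η : ↥F.O → ℂ) = 64 := by
    apply Nat.cast_injective (R := ℂ)
    push_cast
    simp only [← irr_apply_one_eq_deg]
    rw [← hexp 1, hr]
    show ρ (F.oC 1) = 64
    rw [show F.oC 1 = 1 from Subtype.ext rfl, h1]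
  set d := deg (θ : ↥F.O → ℂ) with hd
  have hdorb : ∀ η ∈ orb, e η * deg (η : ↥F.O → ℂ) = n * Nat.card V * d := by
    intro η hη
    obtain ⟨t, -, rfl⟩ := Finset.mem_image.1 hη
    rw [hΦ, hinv, heθ]
    congr 1
    apply Nat.cast_injective (R := ℂ)
    rw [← irr_apply_one_eq_deg, ← irr_apply_one_eq_deg]
    show (θ : ↥F.O → ℂ) (F.actC _ 1) = _
    rw [map_one]
  have hsplit := Finset.sum_add_sum_compl orb fun η => e η * deg (η : ↥F.O → ℂ)
  rw [h64, Finset.sum_congr rfl hdorb, Finset.sum_const, smul_eq_mul,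
    show orb.card * (n * Nat.card V * d) = n * d * (orb.card * Nat.card V) by ring, hcardorb] at hsplit
  have hd1 : 0 < d := deg_irr_pos θ
  have hnd : n * d = 1 := by
    have : 1 ≤ n * d := Nat.mul_pos hn1 hd1
    omega
  have hn' : n = 1 := Nat.eq_one_of_mul_eq_one_right hnd
  have hd' : d = 1 := Nat.eq_one_of_mul_eq_one_left hnd
  have hzero : ∀ η ∉ orb, e η = 0 := by
    intro η hη
    have h := (Finset.sum_eq_zero_iff_of_nonneg fun _ _ => Nat.zero_le _).1
      (show ∑ η ∈ orbᶜ, e η * deg (η : ↥F.O → ℂ) = 0 by omega) η (Finset.mem_compl.2 hη)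
    exact (Nat.mul_eq_zero.1 h).resolve_right (deg_irr_pos η).ne'
  refine ⟨by rw [irr_apply_one_eq_deg, ← hd, hd', Nat.cast_one], fun u => ?_, fun η hη => ?_⟩
  · show r u = _
    rw [hexp u, ← Finset.sum_subset (Finset.subset_univ orb) fun η _ hη => by rw [hzero η hη, Nat.cast_zero, zero_mul],
      ← Finset.sum_fiberwise_of_maps_to (g := Φ) (t := orb) (fun s _ => Finset.mem_image_of_mem Φ (Finset.mem_univ s))
        fun s => (θ : ↥F.O → ℂ) (F.act s u)]
    refine Finset.sum_congr rfl fun η hη => ?_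
    have hb := hfib η hη
    rw [Finset.sum_congr rfl (g := fun _ => (η : ↥F.O → ℂ) u) fun s hs => by
      rw [← (Finset.mem_filter.1 hs).2]; rfl, Finset.sum_const, hb, nsmul_eq_mul]
    obtain ⟨t, -, rfl⟩ := Finset.mem_image.1 hη
    rw [hΦ, hinv, heθ, hn', one_mul]
  · have hm : η ∈ orb := by
      by_contra hno
      exact hη (by rw [he, hzero η hno, Nat.cast_zero])
    obtain ⟨t, -, ht⟩ := Finset.mem_image.1 hm
    exact ⟨t, ht⟩

/-- The free orbit of a row with `J = 1`. -/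
theorem exists_free [IsSimpleGroup G] [Fintype G] [Fintype F.O] [Fintype ↥(F.S : Subgroup G)] (hgood : F.Good)
    {M : Ideal AlgInt} (hM : IsPModular 2 M) {χ : IrrCharacter G} (hχ : χ ∈ principalBlock M G)
    (hne : χ ≠ principal G) {n : ℕ} (hn : F.phi (χ : G → ℂ) 1 = (n : ℂ))
    (hdeg : (χ : G → ℂ) 1 = (n : ℂ) + 64) :
    ∃ lam : ↥F.O →* ℂˣ,
      (∀ u : ↥F.O, lam (F.actC ⟨E.e, E.e_mem⟩ u) = lam u) ∧
      (∀ s : ↥(F.S : Subgroup G), (∀ u, lam (F.act s u) = lam u) → (s : G) ∈ zpowers F.z) ∧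
      (∀ u v : ↥F.O, u * v = v * u) ∧
      ∀ u : ↥F.O, (χ : G → ℂ) u = (n : ℂ) + ∑ s : ↥(F.S : Subgroup G), ((lam (F.act s u) : ℂˣ) : ℂ) := by
  classical
  letI := Fintype.ofFinite F.C
  obtain ⟨m, T, hT, hval, hphi, -⟩ := E.pre.exists_split hM (isCharacter_of_irr χ.2)
  set ρ : ↥F.C → ℂ := fun c => (χ : G → ℂ) c - F.phi (χ : G → ℂ) c with hρdef
  have hφT : ∀ c, F.phi (χ : G → ℂ) c = ∑ ψ ∈ T, (m ψ : ℂ) * (ψ : F.C → ℂ) c := hphi
  have hφi : ∀ c u, F.phi (χ : G → ℂ) (c * F.oC u) = F.phi (χ : G → ℂ) c := fun c u => by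
    rw [hφT, hφT]
    exact Finset.sum_congr rfl fun ψ hψ => by rw [(hT ψ).1 hψ c u]
  have hρc : IsCharacter F.C ρ := by
    rw [show ρ = ∑ ψ ∈ Finset.univ \ T, m ψ • (ψ : F.C → ℂ) from funext fun c => by
      rw [hρdef, Finset.sum_apply]
      simp only [Pi.smul_apply, nsmul_eq_mul]
      rw [hval, hφT, Finset.sum_sdiff_eq_sub (Finset.subset_univ T)]]
    exact IsCharacter.sum _ _ fun ψ _ => IsCharacter.nsmul (isCharacter_of_irr ψ.2) _
  have hρ1 : ρ 1 = 64 := by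
    show (χ : G → ℂ) ((1 : F.C) : G) - F.phi (χ : G → ℂ) 1 = 64
    rw [OneMemClass.coe_one, hn, hdeg, add_sub_cancel_left]
  have hρ0 : ∀ s : ↥(F.S : Subgroup G), s ≠ 1 → ∀ u : ↥F.O, ρ (F.sC s * F.oC u) = 0 := by
    intro s hs u
    show (χ : G → ℂ) ((s : G) * u) - F.phi (χ : G → ℂ) (F.sC s * F.oC u) = 0
    rw [hφi, E.phi_S hM hχ s hs, E.pre.apply_coset hM hχ s.2 (fun h => hs (Subtype.ext h)) u.2, sub_self]
  have hρO : ∀ u : ↥F.O, (χ : G → ℂ) u = (n : ℂ) + ρ (F.oC u) := fun u => by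
    show (χ : G → ℂ) u = (n : ℂ) + ((χ : G → ℂ) (u : G) - F.phi (χ : G → ℂ) (F.oC u))
    have h := hφi 1 u
    rw [one_mul] at h
    rw [h, hn]; ring
  set r : ↥F.O → ℂ := fun u => ρ (F.oC u) with hr
  have hrc : IsCharacter ↥F.O r := IsCharacter.comp_hom hρc (Subgroup.inclusion F.O_le_C)
  -- a constituent
  obtain ⟨θ, hθ⟩ : ∃ θ : IrrCharacter ↥F.O, classInner r (θ : ↥F.O → ℂ) ≠ 0 := by
    by_contra hno
    push Not at hno
    have h := classFunction_expand_apply (isClassFunction_isChar hrc) (1 : ↥F.O)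
    simp only [hno, zero_mul, Finset.sum_const_zero] at h
    rw [hr] at h
    simp only [show F.oC 1 = 1 from Subtype.ext rfl, hρ1] at h
    norm_num at h
  obtain ⟨-, -, hsupp⟩ := E.one_orbit hρc hρ1 hρ0 θ hθ
  -- `e` fixes a constituent
  set eC0 : ↥F.C := ⟨E.e, E.e_mem⟩ with heC
  set Sup := Finset.univ.filter fun η : IrrCharacter ↥F.O => classInner r (η : ↥F.O → ℂ) ≠ 0 with hSup
  have hinv : ∀ (c : ↥F.C) (η : IrrCharacter ↥F.O),
      classInner r ((F.conjO c η : IrrCharacter ↥F.O) : ↥F.O → ℂ) = classInner r (η : ↥F.O → ℂ) := by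
    intro c η
    rw [classInner_def, classInner_def]
    congr 1
    refine Fintype.sum_bijective (F.actC c) ?_ _ _ fun u => ?_
    · exact Function.bijective_iff_has_inverse.2 ⟨F.actC c⁻¹,
        fun u => by rw [← F.actC_mul, inv_mul_cancel, F.actC_one],
        fun u => by rw [← F.actC_mul, mul_inv_cancel, F.actC_one]⟩
    · show ρ (F.oC u) * conj ((η : ↥F.O → ℂ) (F.actC c u)) = ρ (F.oC (F.actC c u)) * _
      rw [show F.oC (F.actC c u) = c * F.oC u * c⁻¹ from Subtype.ext rfl, isClassFunction_isChar hρc]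
  obtain ⟨θ₀, hθ₀, hθ₀e⟩ : ∃ θ₀ : IrrCharacter ↥F.O, classInner r (θ₀ : ↥F.O → ℂ) ≠ 0 ∧ F.conjO eC0 θ₀ = θ₀ := by
    have hmem : ∀ η, η ∈ Sup ↔ classInner r (η : ↥F.O → ℂ) ≠ 0 := fun η => by simp [hSup]
    have h5 : ∀ η : IrrCharacter ↥F.O, F.conjO (eC0 ^ 5) η = η := fun η => by
      rw [show eC0 ^ 5 = F.oC ⟨E.e ^ 5, E.e_pow⟩ from Subtype.ext (by simp [heC, Frame.oC]), F.conjO_O]
    let π : Equiv.Perm {η // η ∈ Sup} :=
      { toFun := fun η => ⟨F.conjO eC0 η.1, (hmem _).2 (by rw [hinv]; exact (hmem _).1 η.2)⟩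
        invFun := fun η => ⟨F.conjO eC0⁻¹ η.1, (hmem _).2 (by rw [hinv]; exact (hmem _).1 η.2)⟩
        left_inv := fun η => Subtype.ext (by
          show F.conjO eC0⁻¹ (F.conjO eC0 η.1) = η.1
          rw [F.conjO_mul, mul_inv_cancel, F.conjO_one])
        right_inv := fun η => Subtype.ext (by
          show F.conjO eC0 (F.conjO eC0⁻¹ η.1) = η.1
          rw [F.conjO_mul, inv_mul_cancel, F.conjO_one]) }
    have hπ : ∀ (k : ℕ) (η : {η // η ∈ Sup}), ((π ^ k) η).1 = F.conjO (eC0 ^ k) η.1 := by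
      intro k
      induction k with
      | zero => intro η; rw [pow_zero, pow_zero, F.conjO_one]; rfl
      | succ k ih =>
        intro η
        rw [pow_succ', pow_succ, ← F.conjO_mul]
        show F.conjO eC0 ((π ^ k) η).1 = _
        rw [ih]
    have hπ5 : π ^ 5 ^ 1 = 1 := Equiv.ext fun η => Subtype.ext (by rw [pow_one, hπ, h5]; rfl)
    have hSupOrb : Sup = Finset.univ.image fun s : ↥(F.S : Subgroup G) => F.conjO (F.sC s) θ := by
      ext η
      rw [hmem, Finset.mem_image]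
      constructor
      · intro h
        obtain ⟨s, hs⟩ := hsupp η h
        exact ⟨s, Finset.mem_univ _, hs⟩
      · rintro ⟨s, -, rfl⟩
        rw [hinv]; exact hθ
    have hdvd : Sup.card ∣ 64 := by
      refine ⟨Nat.card (F.stab θ), ?_⟩
      letI := Fintype.ofFinite (F.stab θ)
      have h := Finset.card_eq_sum_card_image (fun s : ↥(F.S : Subgroup G) => F.conjO (F.sC s) θ) Finset.univ
      rw [← hSupOrb, Finset.sum_congr rfl (g := fun _ => Nat.card (F.stab θ)) fun η hη => ?_, Finset.sum_const,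
        Finset.card_univ, ← Nat.card_eq_fintype_card, F.ufour.card_all, smul_eq_mul] at h
      · exact h
      · rw [hSupOrb] at hη
        obtain ⟨t, -, rfl⟩ := Finset.mem_image.1 hη
        rw [Nat.card_eq_fintype_card, ← Finset.card_univ]
        symm
        refine Finset.card_bij (fun v _ => (⟨(v : G) * t, mul_mem (F.stab_le_S θ v.2) t.2⟩ : ↥(F.S : Subgroup G)))
          (fun v _ => Finset.mem_filter.2 ⟨Finset.mem_univ _, (F.conjO_eq_iff θ _ t).2 ?_⟩)
          (fun v _ v' _ h => Subtype.ext (mul_right_cancel (congrArg Subtype.val h))) fun s hs => ?_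
        · show (v : G) * t * (t : G)⁻¹ ∈ _
          rw [mul_inv_cancel_right]
          exact v.2
        · exact ⟨⟨(s : G) * (t : G)⁻¹, (F.conjO_eq_iff θ s t).1 (Finset.mem_filter.1 hs).2⟩, Finset.mem_univ _,
            Subtype.ext (inv_mul_cancel_right _ _)⟩
    haveI : Fact (Nat.Prime 5) := ⟨by norm_num⟩
    obtain ⟨η, hη⟩ := Equiv.Perm.exists_fixed_point_of_prime (p := 5) (n := 1) (α := {η // η ∈ Sup})
      (by rw [Fintype.card_coe]; exact fun h => absurd (h.trans hdvd) (by norm_num)) hπ5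
    exact ⟨η.1, (hmem _).1 η.2, congrArg Subtype.val hη⟩
  obtain ⟨hd1, hsum, -⟩ := E.one_orbit hρc hρ1 hρ0 θ₀ hθ₀
  obtain ⟨lam, hlam⟩ := exists_hom_of_deg_one (isCharacter_of_irr θ₀.2) hd1
  have hval' : ∀ u : ↥F.O, (θ₀ : ↥F.O → ℂ) u = ((lam u : ℂˣ) : ℂ) := fun u => congrFun hlam u
  have hchi : ∀ u : ↥F.O, (χ : G → ℂ) u = (n : ℂ) + ∑ s : ↥(F.S : Subgroup G), ((lam (F.act s u) : ℂˣ) : ℂ) :=
    fun u => by rw [hρO u, hsum u]; simp only [hval']
  have hfix : ∀ u : ↥F.O, lam (F.actC eC0 u) = lam u := fun u => Units.ext (by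
    rw [← hval', ← hval']
    exact congrFun (congrArg Subtype.val hθ₀e) u)
  -- the kernel of `χ` is trivial
  have hker : ∀ u : ↥F.O, (∀ s : ↥(F.S : Subgroup G), lam (F.act s u) = 1) → u = 1 := by
    intro u hu
    have h : (χ : G → ℂ) u = (χ : G → ℂ) 1 := by
      rw [hchi u, hdeg]
      simp only [hu, Units.val_one, Finset.sum_const, Finset.card_univ, nsmul_eq_mul, mul_one,
        ← Nat.card_eq_fintype_card, F.ufour.card_all]
      norm_num
    rcases (kerSubgroup_normal (isCharacter_of_irr χ.2)).eq_bot_or_eq_top with hK | hK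
    · have hu' : (u : G) ∈ kerSubgroup (χ : G → ℂ) (isCharacter_of_irr χ.2) := h
      rw [hK, Subgroup.mem_bot] at hu'
      exact Subtype.ext hu'
    · exfalso
      obtain ⟨v, hv⟩ := E.pre.not_trivial_O hgood hne
      refine hv ?_
      have hg : (v : G) ∈ kerSubgroup (χ : G → ℂ) (isCharacter_of_irr χ.2) := by rw [hK]; exact Subgroup.mem_top _
      exact hg
  -- the stabiliser
  set V := F.stab θ₀ with hV
  have hVmem : ∀ s : ↥(F.S : Subgroup G), (s : G) ∈ V ↔ ∀ u, lam (F.act s u) = lam u := by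
    intro s
    constructor
    · rintro ⟨_, h⟩ u
      refine Units.ext ?_
      rw [← hval', ← hval']
      exact congrFun (congrArg Subtype.val h) u
    · intro h
      refine ⟨s.2, Subtype.ext (funext fun u => ?_)⟩
      show (θ₀ : ↥F.O → ℂ) (F.act s u) = _
      rw [hval', hval', h u]
  have hnoW : ¬ F.W ≤ V := by
    intro hWV
    refine hgood.moved fun u hu => Subgroup.mem_centralizer_iff.2 fun w hw => ?_
    have hw' : w ∈ F.W := hw
    set uO : ↥F.O := ⟨u, hu⟩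
    set wS : ↥(F.S : Subgroup G) := ⟨w, hw'.1⟩
    have hx : F.act wS uO * uO⁻¹ = 1 := by
      refine hker _ fun s => ?_
      have e : F.act s (F.act wS uO * uO⁻¹) = F.act wS (F.act s uO) * (F.act s uO)⁻¹ := by
        apply Subtype.ext
        show (s : G) * (w * u * w⁻¹ * u⁻¹) * (s : G)⁻¹ = w * ((s : G) * u * (s : G)⁻¹) * w⁻¹ * ((s : G) * u * (s : G)⁻¹)⁻¹
        have hsw : (s : G) * w = w * (s : G) := cenOf_comm hw' s.2
        calc (s : G) * (w * u * w⁻¹ * u⁻¹) * (s : G)⁻¹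
            = ((s : G) * w) * u * ((s : G) * w)⁻¹ * ((s : G) * u * (s : G)⁻¹)⁻¹ := by group
          _ = _ := by rw [hsw]; group
      rw [e, map_mul, map_inv, (hVmem wS).1 (hWV hw') _, mul_inv_cancel]
    have h := congrArg Subtype.val (mul_inv_eq_one.1 hx)
    exact mul_inv_eq_iff_eq_mul.1 h
  have hz2case : F.z2 ∈ V → False := fun hz2 => hnoW fun w hw => by
    rcases F.W_cases hw with rfl | rfl | rfl | rfl
    exacts [one_mem _, F.z_mem_stab θ₀, hz2, mul_mem (F.z_mem_stab θ₀) hz2]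
  have hVW : ∀ g ∈ V, g ∈ F.W → g ∈ zpowers F.z := by
    intro g hg hgW
    rcases F.W_cases hgW with rfl | rfl | rfl | rfl
    · exact one_mem _
    · exact mem_zpowers _
    · exact (hz2case hg).elim
    · refine (hz2case ?_).elim
      have := mul_mem (inv_mem (F.z_mem_stab θ₀)) hg
      rwa [inv_mul_cancel_left] at this
  have hVe : ∀ s ∈ V, E.e * s * E.e⁻¹ ∈ V := by
    intro s hs
    have hsS : s ∈ (F.S : Subgroup G) := F.stab_le_S θ₀ hs
    have hs' := (hVmem ⟨s, hsS⟩).1 hs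
    have hesS : E.e * s * E.e⁻¹ ∈ (F.S : Subgroup G) := (mem_normalizer_iff.1 E.e_norm s).1 hsS
    refine (hVmem ⟨_, hesS⟩).2 fun u => ?_
    have e1 : F.act ⟨_, hesS⟩ u = F.actC eC0 (F.act ⟨s, hsS⟩ (F.actC eC0⁻¹ u)) := by
      apply Subtype.ext
      show E.e * s * E.e⁻¹ * (u : G) * (E.e * s * E.e⁻¹)⁻¹ = E.e * (s * (E.e⁻¹ * (u : G) * E.e⁻¹⁻¹) * s⁻¹) * E.e⁻¹
      group
    rw [e1, hfix, hs', ← hfix, ← F.actC_mul, mul_inv_cancel, F.actC_one]
  have hVsub : ∀ s ∈ V, s ∈ F.W := by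
    intro s hs
    by_contra hsW
    refine hnoW ?_
    -- `V W` is an `e`-invariant subgroup meeting `S \ W`, hence `S`
    have hVS : V ≤ (F.S : Subgroup G) := F.stab_le_S θ₀
    set U : Subgroup G := V ⊔ F.W with hU
    have hUS : U ≤ (F.S : Subgroup G) := sup_le hVS fun w hw => hw.1
    have hUe : U ≤ U.comap (MulAut.conj E.e).toMonoidHom := sup_le
      (fun v hv => mem_sup_left (hVe v hv))
      (fun w hw => by
        show E.e * w * E.e⁻¹ ∈ U
        rw [E.e_cen w hw, mul_inv_cancel_right]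
        exact mem_sup_right hw)
    haveI : Fact (Nat.Prime 5) := ⟨by norm_num⟩
    have hUn : E.e ∈ normalizer (U : Set G) :=
      Cfsg.Lib.BenderSE.mem_normalizer_of_maps_to fun a ha => hUe ha
    set A := zpowers E.e
    have hAn : A ≤ normalizer (U : Set G) := zpowers_le.2 hUn
    letI : MulAction A U :=
      { smul := fun a t => ⟨(a : G) * t * (a : G)⁻¹, (mem_normalizer_iff.1 (hAn a.2) t).1 t.2⟩
        one_smul := fun t => Subtype.ext (by show (1 : G) * t * (1 : G)⁻¹ = t; simp)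
        mul_smul := fun a b t => Subtype.ext (by
          show ((a : G) * b) * t * ((a : G) * b)⁻¹ = a * (b * t * (b : G)⁻¹) * (a : G)⁻¹
          group) }
    have hmod := E.e_pgroup.card_modEq_card_fixedPoints U
    have hfx : ∀ t : U, t ∈ MulAction.fixedPoints A U ↔ (t : G) ∈ F.W := by
      intro t
      constructor
      · intro ht
        exact E.fixed_le_W (hUS t.2) (mul_inv_eq_iff_eq_mul.1 (congrArg Subtype.val (ht ⟨E.e, mem_zpowers _⟩)))
      · rintro ht ⟨a, ha⟩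
        obtain ⟨i, rfl⟩ := mem_zpowers_iff.1 ha
        refine Subtype.ext ?_
        show E.e ^ i * t * (E.e ^ i)⁻¹ = t
        rw [((show Commute E.e (t : G) from E.e_cen _ ht).zpow_left i).eq, mul_inv_cancel_right]
    have hfc : Nat.card (MulAction.fixedPoints A U) = 4 := by
      rw [← show Nat.card F.W = 4 from F.ufour.card_cen]
      exact Nat.card_congr
        { toFun := fun t => ⟨(t.1 : G), (hfx t.1).1 t.2⟩
          invFun := fun t => ⟨⟨(t : G), mem_sup_right t.2⟩, (hfx _).2 t.2⟩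
          left_inv := fun _ => rfl
          right_inv := fun _ => rfl }
    rw [hfc] at hmod
    have hdvd : Nat.card U ∈ Nat.divisors 64 :=
      Nat.mem_divisors.2 ⟨F.ufour.card_all ▸ Subgroup.card_dvd_of_le hUS, by norm_num⟩
    have hne4 : Nat.card U ≠ 4 := fun h4 => by
      have := eq_of_le_of_card_ge (show F.W ≤ U from le_sup_right) (by rw [h4]; exact le_of_eq F.ufour.card_cen.symm)
      exact hsW (this ▸ mem_sup_left hs)
    have hm : Nat.card U % 5 = 4 % 5 := hmod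
    have hU64 : Nat.card U = 64 := by
      rw [show Nat.divisors 64 = ({1, 2, 4, 8, 16, 32, 64} : Finset ℕ) by decide] at hdvd
      simp only [Finset.mem_insert, Finset.mem_singleton] at hdvd
      omega
    have hUeq : U = (F.S : Subgroup G) := eq_of_le_of_card_ge hUS (by rw [hU64]; exact le_of_eq F.ufour.card_all)
    intro w hw
    obtain ⟨t, ht, hts⟩ := F.ufour.exists_comm (hVS hs) hsW hw
    rw [← hUeq, hU] at ht
    have hWn : V ≤ normalizer (F.W : Set G) := fun v hv =>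
      Cfsg.Lib.BenderSE.mem_normalizer_of_maps_to fun a ha => by
        rw [show v * a * v⁻¹ = a by rw [cenOf_comm ha (hVS hv), mul_inv_cancel_right]]; exact ha
    rw [← SetLike.mem_coe, Subgroup.coe_mul_of_left_le_normalizer_right _ _ hWn] at ht
    obtain ⟨v, hv, w', hw', rfl⟩ := Set.mem_mul.1 ht
    have e : v * w' * s * (v * w')⁻¹ = v * s * v⁻¹ := by
      rw [show v * w' * s * (v * w')⁻¹ = v * (w' * s * w'⁻¹) * v⁻¹ by group, ← cenOf_comm hw' (hVS hs),
        mul_inv_cancel_right]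
    rw [e] at hts
    have : w = v * s * v⁻¹ * s⁻¹ := by rw [hts, mul_inv_cancel_right]
    rw [this]
    exact mul_mem (mul_mem (mul_mem hv hs) (inv_mem hv)) (inv_mem hs)
  refine ⟨lam, hfix, fun s hs => hVW _ ((hVmem s).2 hs) (hVsub _ ((hVmem s).2 hs)), fun u v => ?_, hchi⟩
  have h := hker (u * v * u⁻¹ * v⁻¹) fun s => by
    rw [← F.actC_sC]
    simp only [map_mul, map_inv]
    rw [mul_comm (lam _) (lam _)]
    group
  rwa [mul_inv_eq_one, mul_inv_eq_iff_eq_mul] at h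

end Frame.Five

end Cfsg.Lib.Lyons
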