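import Cfsg.Agent.Lyons.Chars.Char

/-!
`E = C₅`: the shape of a non-principal row of the principal block.
-/

set_option autoImplicit false
set_option linter.unusedSectionVars false
set_option linter.style.haveILetI false

namespace Cfsg.Lib.Lyons

open Subgroup Cfsg.Lib.BenderSE.Ring2 Cfsg.Lib.Chars Cfsg.Lib.Blocks
open scoped ComplexConjugate

universe u

variable {G : Type u} [Group G] [Finite G]

namespace Frame.Pre

variable {F : Frame G} (P : F.Pre)
include P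

variable {M : Ideal AlgInt} [Fintype G]

/-- The restriction to `C` split into the part trivial on `O` and the rest. -/
theorem exists_split (hM : IsPModular 2 M) [Fintype F.C] [Fintype F.O] {χ : G → ℂ} (hχ : IsCharacter G χ) :
    ∃ (m : IrrCharacter F.C → ℕ) (T : Finset (IrrCharacter F.C)),
      (∀ ψ, ψ ∈ T ↔ F.Inflated (ψ : F.C → ℂ)) ∧
      (∀ c : F.C, χ c = ∑ ψ, (m ψ : ℂ) * (ψ : F.C → ℂ) c) ∧
      (∀ c : F.C, (Nat.card F.O : ℂ)⁻¹ * ∑ u : F.O, χ ((c : G) * u) = ∑ ψ ∈ T, (m ψ : ℂ) * (ψ : F.C → ℂ) c) ∧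
      (∀ ψ, ψ ∉ T → ∑ u : F.O, (ψ : F.C → ℂ) (F.oC u) = 0) := by
  classical
  letI := Fintype.ofFinite (F.O.subgroupOf F.C)
  obtain ⟨m, hm⟩ := IsCharacter.exists_decomp (IsCharacter.restrict hχ F.C)
  have hval : ∀ c : F.C, χ c = ∑ ψ, (m ψ : ℂ) * (ψ : F.C → ℂ) c := fun c => by
    have h := congrFun hm c
    simpa [Finset.sum_apply, nsmul_eq_mul] using h
  let e : F.O ≃ F.O.subgroupOf F.C := (Subgroup.subgroupOfEquivOfLe F.O_le_C).symm.toEquiv
  have he : ∀ u : F.O, ((e u : F.O.subgroupOf F.C) : F.C) = F.oC u := fun u => rfl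
  have hsum : ∀ (ψ : IrrCharacter F.C) (c : F.C), ∑ u : F.O, (ψ : F.C → ℂ) (c * F.oC u) =
      if F.Inflated (ψ : F.C → ℂ) then (Nat.card F.O : ℂ) * (ψ : F.C → ℂ) c else 0 := by
    intro ψ c
    have hiff : F.Inflated (ψ : F.C → ℂ) ↔
        ∀ v ∈ F.O.subgroupOf F.C, (ψ : F.C → ℂ) v = (ψ : F.C → ℂ) 1 := by
      constructor
      · intro h v hv
        have h' := h 1 ⟨v, mem_subgroupOf.1 hv⟩
        rwa [one_mul] at h'
      · intro h d u
        haveI : (F.O.subgroupOf F.C).Normal :=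
          (normal_subgroupOf_iff_le_normalizer F.O_le_C).2 P.C_norm_O
        rw [show d * F.oC u = (d * F.oC u * d⁻¹) * d by group]
        exact IsCharacter.ker_mul (isCharacter_of_irr ψ.2)
          (h _ ((inferInstance : (F.O.subgroupOf F.C).Normal).conj_mem _ (mem_subgroupOf.2 u.2) d))
    have h := sum_coset_irr hM F.O_le_C P.C_norm_O P.not_dvd_O ψ c
    rw [← Fintype.sum_equiv e (fun u => (ψ : F.C → ℂ) (c * F.oC u)) _ fun u => rfl] at h
    rw [h, if_congr hiff rfl rfl]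
  refine ⟨m, Finset.univ.filter fun ψ => F.Inflated (ψ : F.C → ℂ), fun ψ => by simp, hval, fun c => ?_, fun ψ hψ => ?_⟩
  · rw [Finset.sum_congr rfl (g := fun u => ∑ ψ, (m ψ : ℂ) * (ψ : F.C → ℂ) (c * F.oC u))
      fun (u : F.O) _ => (show χ ((c : G) * u) = _ from hval (c * F.oC u)), Finset.sum_comm, Finset.mul_sum, Finset.sum_filter]
    refine Finset.sum_congr rfl fun ψ _ => ?_
    rw [← Finset.mul_sum, hsum]
    have h0 : (Nat.card F.O : ℂ) ≠ 0 := Nat.cast_ne_zero.2 Nat.card_pos.ne'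
    split_ifs
    · field_simp
    · simp
  · have h := hsum ψ 1
    rw [if_neg fun h => hψ (Finset.mem_filter.2 ⟨Finset.mem_univ _, h⟩)] at h
    simpa using h

/-- A linear character of `S` trivial on `W` sums to `-4` outside `W`. -/
theorem exists_alpha [Fintype ↥(F.S : Subgroup G)] :
    ∃ α : ↥(F.S : Subgroup G) →* ℂˣ, (∀ s : ↥(F.S : Subgroup G), (s : G) ∈ F.W → α s = 1) ∧
      ∑ s : ↥(F.S : Subgroup G), ((α s : ℂˣ) : ℂ) = 0 := by
  classical
  set V : Subgroup ↥(F.S : Subgroup G) := F.W.subgroupOf (F.S : Subgroup G)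
  haveI : V.Normal := ⟨fun x hx g => by
    refine mem_subgroupOf.2 ?_
    show (g : G) * x * (g : G)⁻¹ ∈ F.W
    rw [cenOf_comm (mem_subgroupOf.1 hx) g.2, mul_inv_cancel_right]
    exact mem_subgroupOf.1 hx⟩
  letI : CommGroup (↥(F.S : Subgroup G) ⧸ V) :=
    { (inferInstance : Group (↥(F.S : Subgroup G) ⧸ V)) with
      mul_comm := by
        intro a b
        obtain ⟨x, rfl⟩ := QuotientGroup.mk_surjective a
        obtain ⟨y, rfl⟩ := QuotientGroup.mk_surjective b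
        rw [← QuotientGroup.mk_mul, ← QuotientGroup.mk_mul, QuotientGroup.eq]
        refine mem_subgroupOf.2 ?_
        show ((x : G) * y)⁻¹ * (y * x) ∈ F.W
        rw [show ((x : G) * y)⁻¹ * (y * x) = (y : G)⁻¹ * (x : G)⁻¹ * (y : G)⁻¹⁻¹ * (x : G)⁻¹⁻¹ by group]
        exact F.ufour.comm_cen (inv_mem y.2) (inv_mem x.2) }
  obtain ⟨s, hs, hsW⟩ := F.exists_not_W
  have hne : QuotientGroup.mk' V ⟨s, hs⟩ ≠ 1 := fun h =>
    hsW (mem_subgroupOf.1 ((QuotientGroup.eq_one_iff (N := V) _).1 h))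
  obtain ⟨φ, hφ⟩ := CommGroup.exists_apply_ne_one_of_hasEnoughRootsOfUnity (↥(F.S : Subgroup G) ⧸ V) ℂ hne
  set α : ↥(F.S : Subgroup G) →* ℂˣ := φ.comp (QuotientGroup.mk' V)
  refine ⟨α, fun t ht => ?_, ?_⟩
  · show φ (QuotientGroup.mk' V t) = 1
    rw [show QuotientGroup.mk' V t = 1 from (QuotientGroup.eq_one_iff (N := V) _).2 (mem_subgroupOf.2 ht), map_one]
  · refine (mul_eq_zero.1 ?_).resolve_left
      (sub_ne_zero.2 (fun e => hφ (Units.ext e)) : ((α ⟨s, hs⟩ : ℂˣ) : ℂ) - 1 ≠ 0)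
    rw [sub_mul, one_mul, sub_eq_zero, Finset.mul_sum]
    exact Fintype.sum_equiv (Equiv.mulLeft ⟨s, hs⟩) _ _ fun t => by
      rw [Equiv.coe_mulLeft, map_mul, Units.val_mul]

/-- Sums over `S` of a function constant off the identity on `W` and off `W`. -/
theorem sum_S [Fintype ↥(F.S : Subgroup G)] (f : ↥(F.S : Subgroup G) → ℂ) (d p : ℂ)
    (hd : ∀ s : ↥(F.S : Subgroup G), s ≠ 1 → (s : G) ∈ F.W → f s = d)
    (α : ↥(F.S : Subgroup G) → ℂ) (hα : ∀ s : ↥(F.S : Subgroup G), (s : G) ∈ F.W → α s = 1)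
    (hp : ∀ s : ↥(F.S : Subgroup G), (s : G) ∉ F.W → f s = p) :
    ∑ s, f s * α s = f 1 + 3 * d + p * (∑ s, α s - 4) := by
  classical
  have hW : (Finset.univ.filter fun s : ↥(F.S : Subgroup G) => (s : G) ∈ F.W).card = 4 := by
    rw [← Fintype.card_subtype, ← Nat.card_eq_fintype_card, ← show Nat.card F.W = 4 from F.ufour.card_cen]
    exact Nat.card_congr
      { toFun := fun s => ⟨s.1, s.2⟩
        invFun := fun w => ⟨⟨w, w.2.1⟩, w.2⟩
        left_inv := fun _ => rfl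
        right_inv := fun _ => rfl }
  set A := Finset.univ.filter fun s : ↥(F.S : Subgroup G) => (s : G) ∈ F.W
  set B := Finset.univ.filter fun s : ↥(F.S : Subgroup G) => ¬ (s : G) ∈ F.W
  have h1 : (1 : ↥(F.S : Subgroup G)) ∈ A := Finset.mem_filter.2 ⟨Finset.mem_univ _, one_mem _⟩
  have hs : ∑ s, α s = 4 + ∑ s ∈ B, α s := by
    rw [← Finset.sum_filter_add_sum_filter_not Finset.univ (fun s : ↥(F.S : Subgroup G) => (s : G) ∈ F.W)]
    congr 1
    rw [Finset.sum_congr rfl fun s hs => hα s (Finset.mem_filter.1 hs).2, Finset.sum_const, nsmul_eq_mul, mul_one]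
    rw [hW]; norm_num
  have hA : ∑ s ∈ A, f s * α s = f 1 + 3 * d := by
    rw [← Finset.add_sum_erase A _ h1, Finset.sum_congr rfl (g := fun _ => d) fun s hs => ?_, Finset.sum_const,
      Finset.card_erase_of_mem h1, hW, nsmul_eq_mul, hα 1 (one_mem _), mul_one]
    · norm_num
    · obtain ⟨hs1, hs2⟩ := Finset.mem_erase.1 hs
      rw [hd s hs1 (Finset.mem_filter.1 hs2).2, hα s (Finset.mem_filter.1 hs2).2, mul_one]
  have hB : ∑ s ∈ B, f s * α s = p * ∑ s ∈ B, α s := by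
    rw [Finset.mul_sum]
    exact Finset.sum_congr rfl fun s hs => by rw [hp s (Finset.mem_filter.1 hs).2]
  rw [← Finset.sum_filter_add_sum_filter_not Finset.univ (fun s : ↥(F.S : Subgroup G) => (s : G) ∈ F.W), hA, hB, hs]
  ring

/-- `O` is not trivial, so no non-principal character of a simple group is trivial on it. -/
theorem not_trivial_O [IsSimpleGroup G] (hgood : F.Good) {χ : IrrCharacter G} (hne : χ ≠ principal G) :
    ∃ u : F.O, (χ : G → ℂ) u ≠ (χ : G → ℂ) 1 := by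
  by_contra hall
  push Not at hall
  rcases (kerSubgroup_normal (isCharacter_of_irr χ.2)).eq_bot_or_eq_top with hK | hK
  · refine hgood.moved fun u hu => ?_
    have hu' : u ∈ kerSubgroup (χ : G → ℂ) (isCharacter_of_irr χ.2) := hall ⟨u, hu⟩
    rw [hK, Subgroup.mem_bot] at hu'
    rw [hu']
    exact one_mem _
  · refine hne (Subtype.ext (funext fun g => ?_))
    have hcon : ∀ g : G, (χ : G → ℂ) g = (χ : G → ℂ) 1 := fun g => by
      have hg : g ∈ kerSubgroup (χ : G → ℂ) (isCharacter_of_irr χ.2) := by rw [hK]; exact Subgroup.mem_top g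
      exact hg
    have h0 : (χ : G → ℂ) 1 * ((χ : G → ℂ) 1 - 1) = 0 := by
      have h1 := classInner_irr_self χ
      rw [classInner_def, inv_mul_eq_one₀ (Nat.cast_ne_zero.2 Nat.card_pos.ne'),
        Finset.sum_congr rfl (g := fun _ => (χ : G → ℂ) 1 * (χ : G → ℂ) 1) fun x _ => by
          rw [hcon x, irr_apply_one_eq_deg, Complex.conj_natCast],
        Finset.sum_const, Finset.card_univ, nsmul_eq_mul, ← Nat.card_eq_fintype_card] at h1
      have hN : (Nat.card G : ℂ) ≠ 0 := Nat.cast_ne_zero.2 Nat.card_pos.ne'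
      have hd : 0 < deg (χ : G → ℂ) := deg_irr_pos χ
      have h2 : (Nat.card G : ℂ) * ((χ : G → ℂ) 1 * (χ : G → ℂ) 1 - 1) = 0 := by linear_combination -h1
      have h3 := (mul_eq_zero.1 h2).resolve_left hN
      rw [irr_apply_one_eq_deg] at h3 ⊢
      have h4 : ((deg (χ : G → ℂ) * deg (χ : G → ℂ) : ℕ) : ℂ) = ((1 : ℕ) : ℂ) := by
        push_cast; linear_combination h3
      have h5 : deg (χ : G → ℂ) = 1 := Nat.eq_one_of_mul_eq_one_right (Nat.cast_injective h4)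
      rw [h5]; norm_num
    rw [hcon g]
    show (χ : G → ℂ) 1 = 1
    exact sub_eq_zero.1 ((mul_eq_zero.1 h0).resolve_left (IsIrrCharacter.apply_one_ne_zero χ.2))

end Frame.Pre

/-- The part trivial on `O`. -/
noncomputable def Frame.phi (F : Frame G) (χ : G → ℂ) [Fintype F.O] (c : F.C) : ℂ :=
  (Nat.card F.O : ℂ)⁻¹ * ∑ u : F.O, χ ((c : G) * u)

namespace Frame.Five

variable {F : Frame G} (E : F.Five)
include E

theorem mem_SO_coord {c : G} (hc : c ∈ F.C) : ∃ k : ℕ, (E.e ^ k)⁻¹ * c ∈ F.SO := by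
  obtain ⟨s, hs, k, u, hu, rfl⟩ := E.pre.cover' hc
  refine ⟨k, (E.e ^ k)⁻¹ * s * E.e ^ k, (mem_normalizer_iff''.1 (pow_mem E.e_norm k) s).1 hs, u, hu, ?_⟩
  show (E.e ^ k)⁻¹ * (s * E.e ^ k * u) = _
  group

theorem mod_of_SO {i j : ℕ} {c : G} (hi : (E.e ^ i)⁻¹ * c ∈ F.SO) (hj : (E.e ^ j)⁻¹ * c ∈ F.SO) : i % 5 = j % 5 := by
  have h : (E.e ^ i)⁻¹ * E.e ^ j ∈ F.SO := by
    rw [show (E.e ^ i)⁻¹ * E.e ^ j = ((E.e ^ i)⁻¹ * c) * ((E.e ^ j)⁻¹ * c)⁻¹ by group]
    exact mul_mem hi (inv_mem hj)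
  obtain ⟨s, hs, u, hu, he⟩ := h
  have hs1 : s = 1 := E.pre.eq_one_of_S_K hs (by
    rw [show s = (E.e ^ i)⁻¹ * E.e ^ j * u⁻¹ by rw [he]; group]
    exact mul_mem (mul_mem (inv_mem (E.pre.pow_mem_K i)) (E.pre.pow_mem_K j)) (E.pre.O_le_K (inv_mem hu)))
  rw [hs1, one_mul] at he
  exact E.mod_of_pow (he ▸ hu)

/-- The index of an element of `C`. -/
noncomputable def cidx (c : F.C) : ZMod 5 := (Classical.choose (E.mem_SO_coord c.2) : ℕ)

theorem cidx_spec (c : F.C) {k : ℕ} (h : (E.e ^ k)⁻¹ * (c : G) ∈ F.SO) : E.cidx c = (k : ZMod 5) := by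
  show ((Classical.choose (E.mem_SO_coord c.2) : ℕ) : ZMod 5) = k
  rw [ZMod.natCast_eq_natCast_iff']
  exact E.mod_of_SO (Classical.choose_spec (E.mem_SO_coord c.2)) h

theorem cidx_mul (c d : F.C) : E.cidx (c * d) = E.cidx c + E.cidx d := by
  obtain ⟨k, hk⟩ := E.mem_SO_coord c.2
  obtain ⟨j, hj⟩ := E.mem_SO_coord d.2
  rw [E.cidx_spec c hk, E.cidx_spec d hj, ← Nat.cast_add]
  refine E.cidx_spec _ ?_
  have h := mul_mem (E.pre.conj_mem_SO (inv_mem (pow_mem E.e_mem j)) hk) hj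
  refine (show (E.e ^ (k + j))⁻¹ * ((c * d : F.C) : G) = _ from ?_) ▸ h
  rw [pow_add, Subgroup.coe_mul]; group

/-- The linear characters of `C`. -/
noncomputable def clin (b : ZMod 5) : ↥F.C →* ℂˣ where
  toFun x := Units.mk0 (ev (b * E.cidx x)) (ev_ne_zero _)
  map_one' := by
    refine Units.ext ?_
    show ev (b * E.cidx 1) = 1
    rw [E.cidx_spec 1 (k := 0) (by simp), Nat.cast_zero, mul_zero, ev_zero]
  map_mul' x y := by
    refine Units.ext ?_
    show ev (b * E.cidx (x * y)) = ev (b * E.cidx x) * ev (b * E.cidx y)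
    rw [E.cidx_mul, mul_add, ev_add]

theorem cidx_coord (s : ↥(F.S : Subgroup G)) (k : ZMod 5) : E.cidx (F.sC s * E.eC k) = k := by
  refine (E.cidx_spec (F.sC s * E.eC k) (k := k.val) ?_).trans (ZMod.natCast_zmod_val k)
  refine ⟨(E.e ^ k.val)⁻¹ * s * E.e ^ k.val, (mem_normalizer_iff''.1 (pow_mem E.e_norm _) _).1 s.2, 1, one_mem _, ?_⟩
  show (E.e ^ k.val)⁻¹ * ((s : G) * E.e ^ k.val) = _
  group

theorem cidx_mul_O (c : F.C) (u : F.O) : E.cidx (c * F.oC u) = E.cidx c := by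
  rw [E.cidx_mul, E.cidx_spec (F.oC u) (k := 0) ⟨1, one_mem _, u, u.2, by simp [Frame.oC]⟩, Nat.cast_zero, add_zero]

variable {M : Ideal AlgInt} [Fintype G]

variable [Fintype F.O]

theorem phi_S (hM : IsPModular 2 M) {χ : IrrCharacter G} (hχ : χ ∈ principalBlock M G)
    (s : ↥(F.S : Subgroup G)) (hs : s ≠ 1) : F.phi (χ : G → ℂ) (F.sC s) = (χ : G → ℂ) s := by
  rw [Frame.phi, Finset.sum_congr rfl (g := fun _ => (χ : G → ℂ) s) fun (u : F.O) _ =>
    (show (χ : G → ℂ) ((F.sC s : G) * u) = (χ : G → ℂ) s from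
      E.pre.apply_coset hM hχ s.2 (fun h => hs (Subtype.ext h)) u.2), Finset.sum_const, Finset.card_univ,
    nsmul_eq_mul, ← Nat.card_eq_fintype_card, inv_mul_cancel_left₀ (Nat.cast_ne_zero.2 Nat.card_pos.ne')]

theorem phi_W (hM : IsPModular 2 M) {χ : IrrCharacter G} (hχ : χ ∈ principalBlock M G) {w : G} (hw : w ∈ F.W)
    (hw1 : w ≠ 1) (k : ZMod 5) :
    F.phi (χ : G → ℂ) (F.sC ⟨w, hw.1⟩ * E.eC k) = E.zval (χ : G → ℂ) k := by
  rw [Frame.phi, E.zval_principal hM hχ, Finset.sum_congr rfl (g := fun _ => (χ : G → ℂ) (F.z * E.e ^ k.val))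
    fun (u : F.O) _ => (show (χ : G → ℂ) (((F.sC ⟨w, hw.1⟩ * E.eC k : F.C) : G) * u) = _ from by
      show (χ : G → ℂ) (w * E.e ^ k.val * u) = _
      rw [mul_assoc]; exact E.pre.apply_W hM hχ hw hw1 k.val u.2),
    Finset.sum_const, Finset.card_univ, nsmul_eq_mul, ← Nat.card_eq_fintype_card,
    inv_mul_cancel_left₀ (Nat.cast_ne_zero.2 Nat.card_pos.ne')]

/-- The shape of a non-principal row, with the part trivial on `O` of degree `dz + 16 M`. -/
theorem exists_shape [IsSimpleGroup G] (hgood : F.Good) (hM : IsPModular 2 M) {χ : IrrCharacter G}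
    (hχ : χ ∈ principalBlock M G) (hne : χ ≠ principal G) {a : G} (ha : a ∈ (F.S : Subgroup G)) (haW : a ∉ F.W)
    {d : ZMod 5 → ℤ} (hd : ∀ b, E.dC (χ : G → ℂ) b = d b) {p : ℤ} (hp : (χ : G → ℂ) a = p) :
    ∃ Mn R J : ℕ, 1 ≤ J ∧ (deg (χ : G → ℂ) : ℤ) = (∑ c, d c) + 16 * Mn + 64 * J ∧
      p = (∑ c, d c) - 16 * R + 4 * Mn ∧ (∀ b, 3 * (R : ℤ) ≤ d b + Mn) ∧
      (Mn : ℤ) ≤ ∑ b, (d b + Mn - 3 * R) ∧ F.phi (χ : G → ℂ) 1 = ((∑ c, d c) + 16 * Mn : ℤ) := by
  classical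
  letI := Fintype.ofFinite F.C
  letI := Fintype.ofFinite ↥(F.S : Subgroup G)
  letI := Fintype.ofFinite F.W
  obtain ⟨m, T, hT, hval, hphi, hrest⟩ := E.pre.exists_split hM (isCharacter_of_irr χ.2)
  set φ := F.phi (χ : G → ℂ) with hφ
  have hφT : ∀ c, φ c = ∑ ψ ∈ T, (m ψ : ℂ) * (ψ : F.C → ℂ) c := hphi
  have hφi : F.Inflated φ := fun c u => by
    rw [hφT, hφT]
    exact Finset.sum_congr rfl fun ψ hψ => by rw [(hT ψ).1 hψ c u]
  have hφc : IsCharacter F.C φ := by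
    rw [show φ = ∑ ψ ∈ T, m ψ • (ψ : F.C → ℂ) from funext fun c => by
      rw [hφT, Finset.sum_apply]; simp [nsmul_eq_mul]]
    exact IsCharacter.sum _ _ fun ψ _ => IsCharacter.nsmul (isCharacter_of_irr ψ.2) _
  have hφcl : IsClassFunction F.C φ := isClassFunction_isChar hφc
  set dz : ℤ := ∑ c, d c with hdz
  have hz : (χ : G → ℂ) F.z = (dz : ℂ) := by
    rw [← E.sum_dC_z hM hχ, hdz]; push_cast; exact Finset.sum_congr rfl fun b _ => hd b
  -- values on `S`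
  have hSW : ∀ s : ↥(F.S : Subgroup G), s ≠ 1 → (s : G) ∈ F.W → φ (F.sC s) = (dz : ℂ) := fun s h1 hw => by
    rw [hφ, E.phi_S hM hχ s h1, E.pre.apply_involution hw (fun e => h1 (Subtype.ext e)), hz]
  have hSq : ∀ s : ↥(F.S : Subgroup G), (s : G) ∉ F.W → φ (F.sC s) = (p : ℂ) := fun s hw => by
    have h1 : s ≠ 1 := fun e => hw (by rw [e]; exact one_mem _)
    obtain ⟨g, hg⟩ := isConj_iff.1 (E.classes s s.2 a ha hw haW)
    rw [hφ, E.phi_S hM hχ s h1, ← hp, ← isClassFunction_irr χ (s : G) g, hg]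
  -- the projection on the sign pattern
  have hWk : ∀ (w : G) (hw : w ∈ F.W), w ≠ 1 → ∀ k, φ (F.sC ⟨w, hw.1⟩ * E.eC k) = E.zval (χ : G → ℂ) k :=
    fun w hw h1 k => E.phi_W hM hχ hw h1 k
  set L := T.filter fun ψ : IrrCharacter F.C => F.InLam (ψ : F.C → ℂ) with hL
  have hproj : ∀ k, (4 : ℂ)⁻¹ * (φ (E.eC k) - E.zval (χ : G → ℂ) k) =
      ∑ ψ ∈ L, (m ψ : ℂ) * (ψ : F.C → ℂ) (E.eC k) := by
    intro k
    have e3 : F.zC * F.z2C = F.sC ⟨F.z * F.z2, mul_mem F.z_mem_S F.z2_mem.1⟩ := Subtype.ext rfl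
    have hz12 : F.z * F.z2 ∈ F.W := mul_mem F.z_mem_W F.z2_mem
    calc (4 : ℂ)⁻¹ * (φ (E.eC k) - E.zval (χ : G → ℂ) k)
        = (4 : ℂ)⁻¹ * (φ (E.eC k) - φ (F.zC * E.eC k) + φ (F.z2C * E.eC k) - φ (F.zC * F.z2C * E.eC k)) := by
          rw [e3, show F.zC = F.sC ⟨F.z, F.z_mem_S⟩ from rfl, show F.z2C = F.sC ⟨F.z2, F.z2_mem.1⟩ from rfl,
            hWk _ F.z_mem_W F.z_ne, hWk _ F.z2_mem F.z2_ne_one, hWk _ hz12 F.z_mul_z2_ne]
          ring
      _ = ∑ ψ ∈ T, (m ψ : ℂ) * ((4 : ℂ)⁻¹ * ((ψ : F.C → ℂ) (E.eC k) - (ψ : F.C → ℂ) (F.zC * E.eC k) +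
          (ψ : F.C → ℂ) (F.z2C * E.eC k) - (ψ : F.C → ℂ) (F.zC * F.z2C * E.eC k))) := by
          simp only [hφT, ← Finset.sum_sub_distrib, ← Finset.sum_add_distrib, Finset.mul_sum]
          exact Finset.sum_congr rfl fun ψ _ => by ring
      _ = _ := by
          rw [hL, Finset.sum_filter]
          refine Finset.sum_congr rfl fun ψ hψ => ?_
          rw [E.proj_lam ψ ((hT ψ).1 hψ)]
          split_ifs <;> simp
  set Mn := ∑ ψ ∈ L, m ψ with hMn
  choose c hc1 hc2 hc3 hc4 using fun ψ : L =>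
    E.four_lam ψ.1 ((hT _).1 (Finset.mem_filter.1 ψ.2).1) (Finset.mem_filter.1 ψ.2).2
  set N : ZMod 5 → ℕ := fun b => ∑ ψ : L, m ψ.1 * c ψ b with hN
  have hfourd : ∀ b, (5 : ℂ)⁻¹ * ∑ k, ev (-(b * k)) * E.zval (χ : G → ℂ) k = (d b : ℂ) := fun b => hd b
  have hfour : ∀ b, E.four φ b - (d b : ℂ) = 4 * (N b : ℂ) := by
    intro b
    have h : ∑ k, ev (-(b * k)) * ((4 : ℂ)⁻¹ * (φ (E.eC k) - E.zval (χ : G → ℂ) k)) = 5 * (N b : ℂ) := by
      simp only [hproj, Finset.mul_sum]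
      rw [Finset.sum_comm, ← Finset.sum_coe_sort L, hN]
      push_cast
      rw [Finset.mul_sum]
      refine Finset.sum_congr rfl fun ψ _ => ?_
      rw [← hc2 ψ b, Frame.Five.four, Finset.mul_sum, Finset.mul_sum, Finset.mul_sum]
      exact Finset.sum_congr rfl fun k _ => by ring
    rw [← hfourd, Frame.Five.four, ← mul_sub, ← Finset.sum_sub_distrib]
    rw [Finset.sum_congr rfl (g := fun k => 4 * (ev (-(b * k)) * ((4 : ℂ)⁻¹ * (φ (E.eC k) - E.zval (χ : G → ℂ) k))))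
      fun k _ => by ring, ← Finset.mul_sum, h]
    ring
  have hNle : ∀ b, N b ≤ Mn := fun b => by
    rw [hMn, ← Finset.sum_coe_sort L, hN]
    exact Finset.sum_le_sum fun ψ _ => (Nat.mul_le_mul_left _ (hc1 ψ b)).trans (Nat.mul_one _).le
  have hNsum : ∑ b, N b = 4 * Mn := by
    simp only [hN]
    rw [Finset.sum_comm, hMn, ← Finset.sum_coe_sort L, Finset.mul_sum]
    refine Finset.sum_congr rfl fun ψ _ => ?_
    rw [← Finset.mul_sum, hc4, mul_comm]
  -- the degree of the part trivial on `O`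
  have hF : φ 1 = ((dz + 16 * Mn : ℤ) : ℂ) := by
    have h := E.sum_four φ
    rw [Finset.sum_congr rfl fun b _ => sub_eq_iff_eq_add.1 (hfour b), Finset.sum_add_distrib,
      ← Finset.mul_sum, ← Nat.cast_sum, hNsum] at h
    rw [← h, hdz]
    push_cast
    ring
  -- `R`
  obtain ⟨α, hαW, hα0⟩ := E.pre.exists_alpha
  have hαW' : ∀ s : ↥(F.S : Subgroup G), (s : G) ∈ F.W → ((α s : ℂˣ) : ℂ) = 1 := fun s h => by rw [hαW s h, Units.val_one]
  have hconjW : ∀ s : ↥(F.S : Subgroup G), (s : G) ∈ F.W → conj ((α s : ℂˣ) : ℂ) = 1 := fun s h => by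
    rw [hαW' s h, map_one]
  obtain ⟨R, hR⟩ := IsCharacter.exists_mult (IsCharacter.comp_hom hφc (Subgroup.inclusion F.sylow_le_C))
    (isIrrCharacter_linear α)
  rw [classInner_def, E.pre.sum_S (fun s => φ (Subgroup.inclusion F.sylow_le_C s)) dz p hSW
    (fun s => conj ((α s : ℂˣ) : ℂ)) hconjW hSq, ← map_sum, hα0, map_zero, F.ufour.card_all,
    map_one (Subgroup.inclusion F.sylow_le_C), hF] at hR
  have hR' : (dz + 16 * Mn : ℤ) + 3 * dz - 4 * p = 64 * (R : ℤ) := by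
    apply Int.cast_injective (α := ℂ)
    push_cast at hR ⊢
    linear_combination (64 : ℂ) * hR
  -- `r b`
  have hr : ∀ b, ∃ r : ℕ, (r : ℤ) = d b + N b - 3 * R := by
    intro b
    obtain ⟨r, hr⟩ := IsCharacter.exists_mult hφc (isIrrCharacter_linear (E.clin b))
    refine ⟨r, ?_⟩
    have hgi : F.Inflated fun x => φ x * conj ((E.clin b x : ℂˣ) : ℂ) := fun x u => by
      show φ _ * conj (ev (b * E.cidx _)) = φ x * conj (ev (b * E.cidx x))
      rw [hφi, E.cidx_mul_O]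
    rw [classInner_def, E.sum_C hgi, Finset.sum_comm,
      ← Nat.card_eq_of_bijective E.coord E.coord_bijective, Nat.card_prod, Nat.card_prod, Nat.card_zmod,
      F.ufour.card_all] at hr
    set P : ZMod 5 → ℂ := fun k => φ (E.eC k) + 3 * E.zval (χ : G → ℂ) k with hP
    have hWs : ∀ k, ∑ w : F.W, φ (F.sC ⟨w, w.2.1⟩ * E.eC k) = P k := by
      intro k
      rw [← Finset.add_sum_erase _ _ (Finset.mem_univ (1 : F.W)),
        Finset.sum_congr rfl (g := fun _ => E.zval (χ : G → ℂ) k) fun w hw =>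
          hWk w.1 w.2 (fun e => Finset.ne_of_mem_erase hw (Subtype.ext e)) k,
        Finset.sum_const, Finset.card_erase_of_mem (Finset.mem_univ _), Finset.card_univ, ← Nat.card_eq_fintype_card,
        show Nat.card F.W = 4 from F.ufour.card_cen, nsmul_eq_mul, hP]
      congr 1
      exact congrArg φ (Subtype.ext (one_mul _))
    set G0 : ℂ := ∑ s : ↥(F.S : Subgroup G), φ (F.sC s) with hG0
    have hG0v : G0 = φ 1 + 3 * dz + 60 * p := by
      have h := E.pre.sum_S (fun s => φ (F.sC s)) dz p hSW (fun _ => 1) (fun _ _ => rfl) hSq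
      simp only [mul_one, Finset.sum_const, Finset.card_univ, ← Nat.card_eq_fintype_card, F.ufour.card_all] at h
      rw [hG0, h, show F.sC 1 = 1 from Subtype.ext rfl]
      norm_num
      ring
    have hin : ∀ k, ∑ s : ↥(F.S : Subgroup G), φ (F.sC s * E.eC k) * conj ((E.clin b (F.sC s * E.eC k) : ℂˣ) : ℂ) =
        ev (-(b * k)) * (16 * P k) + if k = 0 then G0 - 16 * P 0 else 0 := by
      intro k
      rw [Finset.sum_congr rfl (g := fun s => ev (-(b * k)) * φ (F.sC s * E.eC k)) fun s _ => by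
          show φ _ * conj (ev (b * E.cidx _)) = _
          rw [E.cidx_coord, ev_conj, mul_comm], ← Finset.mul_sum]
      by_cases hk : k = 0
      · subst hk
        rw [if_pos rfl, mul_zero, neg_zero, ev_zero, E.eC_zero]
        simp only [mul_one, one_mul, hG0]
        ring
      · rw [if_neg hk, add_zero, E.sum_twist hφcl hk, hWs]
    simp only [hin, Finset.sum_add_distrib, Finset.sum_ite_eq', Finset.mem_univ, if_true] at hr
    have hsumP : ∑ k, ev (-(b * k)) * (16 * P k) = 16 * (5 * (E.four φ b + 3 * d b)) := by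
      rw [← hfourd, Frame.Five.four, hP]
      simp only [Finset.mul_sum, ← Finset.sum_add_distrib]
      exact Finset.sum_congr rfl fun k _ => by ring
    have hP0 : P 0 = φ 1 + 3 * dz := by
      rw [hP]
      show φ (E.eC 0) + 3 * E.zval (χ : G → ℂ) 0 = _
      rw [E.eC_zero, E.zval_principal hM hχ, ZMod.val_zero, pow_zero, mul_one, hz]
    rw [hsumP, hG0v, hP0, sub_eq_iff_eq_add.1 (hfour b), hF] at hr
    have hO0 : (Nat.card F.O : ℂ) ≠ 0 := Nat.cast_ne_zero.2 Nat.card_pos.ne'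
    have hR2 : ((dz : ℂ) + 16 * (Mn : ℂ)) + 3 * (dz : ℂ) - 4 * (p : ℂ) = 64 * (R : ℂ) := by exact_mod_cast hR'
    apply Int.cast_injective (α := ℂ)
    push_cast at hr ⊢
    rw [← hr]
    field_simp
    linear_combination (-15 : ℂ) * hR2
  choose r hr using hr
  -- `J`
  choose J hJ using fun ψ : IrrCharacter F.C => IsCharacter.exists_mult (IsCharacter.comp_hom
    (isCharacter_of_irr ψ.2) (Subgroup.inclusion F.sylow_le_C))
      (isIrrCharacter_linear (1 : ↥(F.S : Subgroup G) →* ℂˣ))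
  have hJs : ∀ ψ : IrrCharacter F.C, ∑ s : ↥(F.S : Subgroup G), (ψ : F.C → ℂ) (F.sC s) = 64 * (J ψ : ℂ) := by
    intro ψ
    have h := hJ ψ
    rw [classInner_def, F.ufour.card_all] at h
    simp only [MonoidHom.one_apply, Units.val_one, map_one, mul_one] at h
    have h' : (64 : ℂ)⁻¹ * ∑ s : ↥(F.S : Subgroup G), (ψ : F.C → ℂ) (F.sC s) = (J ψ : ℂ) := by exact_mod_cast h
    linear_combination (64 : ℂ) * h'
  have hdiff : (χ : G → ℂ) 1 - φ 1 = 64 * ((∑ ψ ∈ Finset.univ \ T, m ψ * J ψ : ℕ) : ℂ) := by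
    have e : ∑ s : ↥(F.S : Subgroup G), ((χ : G → ℂ) s - φ (F.sC s)) =
        ∑ ψ ∈ Finset.univ \ T, (m ψ : ℂ) * ∑ s : ↥(F.S : Subgroup G), (ψ : F.C → ℂ) (F.sC s) := by
      simp only [Finset.mul_sum]
      rw [Finset.sum_comm]
      refine Finset.sum_congr rfl fun s _ => ?_
      rw [show (χ : G → ℂ) s = (χ : G → ℂ) (F.sC s : G) from rfl, hval, hφT, Finset.sum_sdiff_eq_sub (Finset.subset_univ T)]
    rw [Finset.sum_eq_single (1 : ↥(F.S : Subgroup G))
      (fun s _ hs => sub_eq_zero.2 (E.phi_S hM hχ s hs).symm) (fun h => absurd (Finset.mem_univ _) h)] at e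
    push_cast
    rw [show F.sC 1 = 1 from Subtype.ext rfl] at e
    rw [show ((1 : ↥(F.S : Subgroup G)) : G) = 1 from rfl] at e
    rw [e, Finset.mul_sum]
    exact Finset.sum_congr rfl fun ψ _ => by rw [hJs]; ring
  set Jn := ∑ ψ ∈ Finset.univ \ T, m ψ * J ψ with hJn
  have hxJ : (deg (χ : G → ℂ) : ℤ) = dz + 16 * Mn + 64 * Jn := by
    apply Int.cast_injective (α := ℂ)
    rw [irr_apply_one_eq_deg, hF] at hdiff
    push_cast at hdiff ⊢
    linear_combination hdiff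
  have hJ1 : 1 ≤ Jn := by
    by_contra h0
    obtain ⟨u, hu⟩ := E.pre.not_trivial_O hgood hne
    have e1 : (χ : G → ℂ) 1 = φ 1 := by
      rw [show Jn = 0 by omega, Nat.cast_zero, mul_zero] at hdiff
      exact sub_eq_zero.1 hdiff
    -- no constituent outside `T`
    have hm0 : ∀ ψ ∈ Finset.univ \ T, m ψ = 0 := by
      have e2 : ∑ ψ ∈ Finset.univ \ T, ((m ψ * deg (ψ : F.C → ℂ) : ℕ) : ℂ) = 0 := by
        rw [Finset.sum_sdiff_eq_sub (Finset.subset_univ T)]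
        push_cast
        simp only [← irr_apply_one_eq_deg]
        rw [← hval 1, ← hφT 1, ← e1]
        exact sub_self _
      rw [← Nat.cast_sum, Nat.cast_eq_zero] at e2
      intro ψ hψ
      exact (Nat.mul_eq_zero.1 ((Finset.sum_eq_zero_iff_of_nonneg fun _ _ => Nat.zero_le _).1 e2 ψ hψ)).resolve_right
        (deg_irr_pos ψ).ne'
    refine hu ?_
    have hv : ∀ c : F.C, (χ : G → ℂ) (c : G) = φ c := fun c => by
      rw [hval, hφT]
      refine (Finset.sum_subset (Finset.subset_univ T) fun ψ _ hψ => ?_).symm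
      rw [hm0 ψ (Finset.mem_sdiff.2 ⟨Finset.mem_univ _, hψ⟩), Nat.cast_zero, zero_mul]
    rw [e1, show (χ : G → ℂ) (u : G) = φ (F.oC u) from hv (F.oC u)]
    have h := hφi 1 u
    rwa [one_mul] at h
  refine ⟨Mn, R, Jn, hJ1, hxJ, by omega, fun b => ?_, ?_, hF⟩
  · have h1 := hr b
    have h2 : (N b : ℤ) ≤ Mn := by exact_mod_cast hNle b
    have h3 : (0 : ℤ) ≤ (r b : ℤ) := Int.natCast_nonneg _
    linarith
  · have hs : ∀ b, (r b : ℤ) + (Mn - N b) = d b + Mn - 3 * R := fun b => by rw [hr b]; ring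
    rw [← Finset.sum_congr rfl fun b _ => hs b]
    have hN' : ∑ b, (N b : ℤ) = 4 * Mn := by exact_mod_cast hNsum
    rw [Finset.sum_add_distrib, Finset.sum_sub_distrib, hN', Finset.sum_const, Finset.card_univ, ZMod.card,
      nsmul_eq_mul]
    have h3 : (0 : ℤ) ≤ ∑ b, (r b : ℤ) := Finset.sum_nonneg fun b _ => Int.natCast_nonneg _
    push_cast
    linarith

end Frame.Five

end Cfsg.Lib.Lyons
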