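import Cfsg.Agent.Lyons.ArithSpec
import Cfsg.Agent.Lyons.Frame.One
import Cfsg.Agent.Lyons.Chars.Shape

/-!
`E = 1`: the arithmetic data of the non-principal rows.
-/

set_option autoImplicit false
set_option linter.unusedSectionVars false
set_option linter.style.haveILetI false

namespace Cfsg.Lib.Lyons

open Subgroup Cfsg.Lib.BenderSE.Ring2 Cfsg.Lib.Chars Cfsg.Lib.Blocks
open scoped ComplexConjugate

universe u

variable {G : Type u} [Group G] [Finite G]

namespace Frame.Pre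

variable {F : Frame G} (P : F.Pre)
include P

/-- The value at `z` is an integer. -/
theorem exists_int_z (χ : IrrCharacter G) : ∃ d : ℤ, (χ : G → ℂ) F.z = d := by
  have hord : orderOf F.z ∣ 2 := by rw [F.orderOf_z]
  obtain ⟨q, hq⟩ := rat_of_galConj_fixed (IsCharacter.mem_cycField (m := 2) (isCharacter_of_irr χ.2) hord)
    fun σ k hk hσ => by
      rw [IsGalConj.apply_character hσ (isCharacter_of_irr χ.2) hord]
      obtain ⟨i, rfl⟩ := (Nat.coprime_two_right.1 hk : Odd k)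
      rw [pow_succ, pow_mul, pow_two, F.z_sq, one_pow, one_mul]
  obtain ⟨m, hm⟩ := int_of_isIntegral_rat (q := q) (hq ▸ IsCharacter.isIntegral (isCharacter_of_irr χ.2) F.z)
  exact ⟨m, by rw [hq, hm]; norm_cast⟩

variable {M : Ideal AlgInt} [Fintype G]

/-- Some constituent of a non-principal row is not trivial on `O`, and these add a multiple of 64. -/
theorem exists_jump [IsSimpleGroup G] (hgood : F.Good) (hM : IsPModular 2 M) {χ : IrrCharacter G}
    (hχ : χ ∈ principalBlock M G) (hne : χ ≠ principal G) :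
    ∃ n J : ℕ, 1 ≤ J ∧ (χ : G → ℂ) 1 = (n : ℂ) + 64 * (J : ℂ) := by
  classical
  letI := Fintype.ofFinite F.C
  letI := Fintype.ofFinite F.O
  letI := Fintype.ofFinite ↥(F.S : Subgroup G)
  obtain ⟨m, T, hT, hval, hphi, -⟩ := P.exists_split hM (isCharacter_of_irr χ.2)
  set φ := F.phi (χ : G → ℂ)
  have hφT : ∀ c, φ c = ∑ ψ ∈ T, (m ψ : ℂ) * (ψ : F.C → ℂ) c := hphi
  have hφS : ∀ s : ↥(F.S : Subgroup G), s ≠ 1 → φ (F.sC s) = (χ : G → ℂ) s := by
    intro s hs
    show F.phi (χ : G → ℂ) (F.sC s) = _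
    rw [Frame.phi, Finset.sum_congr rfl (g := fun _ => (χ : G → ℂ) s) fun (u : F.O) _ =>
      (show (χ : G → ℂ) ((F.sC s : G) * u) = (χ : G → ℂ) s from
        P.apply_coset hM hχ s.2 (fun h => hs (Subtype.ext h)) u.2), Finset.sum_const, Finset.card_univ,
      nsmul_eq_mul, ← Nat.card_eq_fintype_card, inv_mul_cancel_left₀ (Nat.cast_ne_zero.2 Nat.card_pos.ne')]
  choose J hJ using fun ψ : IrrCharacter F.C => IsCharacter.exists_mult (IsCharacter.comp_hom
    (isCharacter_of_irr ψ.2) (Subgroup.inclusion F.sylow_le_C))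
      (isIrrCharacter_linear (1 : ↥(F.S : Subgroup G) →* ℂˣ))
  have hJs : ∀ ψ : IrrCharacter F.C, ∑ s : ↥(F.S : Subgroup G), (ψ : F.C → ℂ) (F.sC s) = 64 * (J ψ : ℂ) := by
    intro ψ
    have h := hJ ψ
    rw [classInner_def, F.ufour.card_all] at h
    simp only [MonoidHom.one_apply, Units.val_one, map_one, mul_one] at h
    have h' : (64 : ℂ)⁻¹ * ∑ s : ↥(F.S : Subgroup G), (ψ : F.C → ℂ) (F.sC s) = (J ψ : ℂ) := by exact_mod_cast h
    linear_combination (64 : ℂ) * h'
  have hdiff : (χ : G → ℂ) 1 - φ 1 = 64 * ((∑ ψ ∈ Finset.univ \ T, m ψ * J ψ : ℕ) : ℂ) := by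
    have e : ∑ s : ↥(F.S : Subgroup G), ((χ : G → ℂ) s - φ (F.sC s)) =
        ∑ ψ ∈ Finset.univ \ T, (m ψ : ℂ) * ∑ s : ↥(F.S : Subgroup G), (ψ : F.C → ℂ) (F.sC s) := by
      simp only [Finset.mul_sum]
      rw [Finset.sum_comm]
      refine Finset.sum_congr rfl fun s _ => ?_
      rw [show (χ : G → ℂ) s = (χ : G → ℂ) (F.sC s : G) from rfl, hval, hφT,
        Finset.sum_sdiff_eq_sub (Finset.subset_univ T)]
    rw [Finset.sum_eq_single (1 : ↥(F.S : Subgroup G))
      (fun s _ hs => sub_eq_zero.2 (hφS s hs).symm) (fun h => absurd (Finset.mem_univ _) h)] at e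
    push_cast
    rw [show F.sC 1 = 1 from Subtype.ext rfl, show ((1 : ↥(F.S : Subgroup G)) : G) = 1 from rfl] at e
    rw [e, Finset.mul_sum]
    exact Finset.sum_congr rfl fun ψ _ => by rw [hJs]; ring
  refine ⟨∑ ψ ∈ T, m ψ * deg (ψ : F.C → ℂ), ∑ ψ ∈ Finset.univ \ T, m ψ * J ψ, ?_, ?_⟩
  swap
  · rw [← hdiff]
    push_cast
    simp only [← irr_apply_one_eq_deg, ← hφT]
    ring
  by_contra h0
  obtain ⟨u, hu⟩ := P.not_trivial_O hgood hne
  have e1 : (χ : G → ℂ) 1 = φ 1 := by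
    rw [show (∑ ψ ∈ Finset.univ \ T, m ψ * J ψ) = 0 by omega, Nat.cast_zero, mul_zero] at hdiff
    exact sub_eq_zero.1 hdiff
  have e2 : ∑ ψ ∈ Finset.univ \ T, ((m ψ * deg (ψ : F.C → ℂ) : ℕ) : ℂ) = 0 := by
    rw [Finset.sum_sdiff_eq_sub (Finset.subset_univ T)]
    push_cast
    simp only [← irr_apply_one_eq_deg]
    rw [← hval 1, ← hφT 1, ← e1]
    exact sub_self _
  rw [← Nat.cast_sum, Nat.cast_eq_zero] at e2
  have hv : ∀ c : F.C, (χ : G → ℂ) (c : G) = φ c := fun c => by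
    rw [hval, hφT]
    refine (Finset.sum_subset (Finset.subset_univ T) fun ψ _ hψ => ?_).symm
    rw [(Nat.mul_eq_zero.1 ((Finset.sum_eq_zero_iff_of_nonneg fun _ _ => Nat.zero_le _).1 e2 ψ
      (Finset.mem_sdiff.2 ⟨Finset.mem_univ _, hψ⟩))).resolve_right (deg_irr_pos ψ).ne', Nat.cast_zero, zero_mul]
  refine hu ?_
  rw [e1, show (χ : G → ℂ) (u : G) = φ (F.oC u) from hv (F.oC u), hφT, hφT]
  exact Finset.sum_congr rfl fun ψ hψ => by
    have h := (hT ψ).1 hψ 1 u
    rw [one_mul] at h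
    rw [h]

/-- The sign pattern `(-1, 1)` on `W` occurs four times over. -/
theorem dvd_sub_z {χ : IrrCharacter G} {d : ℤ} (hd : (χ : G → ℂ) F.z = d) :
    (16 : ℤ) ∣ (deg (χ : G → ℂ) : ℤ) - d := by
  classical
  letI := Fintype.ofFinite ↥(F.S : Subgroup G)
  have hS2 : ∀ w ∈ F.W, ∀ s : ↥(F.S : Subgroup G), w * (s : G) = (s : G) * w :=
    fun w hw s => (cenOf_comm hw s.2).symm
  obtain ⟨m, hm⟩ := IsCharacter.exists_decomp (IsCharacter.restrict (isCharacter_of_irr χ.2) (F.S : Subgroup G))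
  have hval : ∀ s : ↥(F.S : Subgroup G), (χ : G → ℂ) s = ∑ ψ, (m ψ : ℂ) * (ψ : ↥(F.S : Subgroup G) → ℂ) s :=
    fun s => by
      have h := congrFun hm s
      simpa [Finset.sum_apply, nsmul_eq_mul] using h
  set zS : ↥(F.S : Subgroup G) := ⟨F.z, F.z_mem_S⟩
  set yS : ↥(F.S : Subgroup G) := ⟨F.z2, F.z2_mem.1⟩
  have hcen : ∀ w : ↥(F.S : Subgroup G), (w : G) ∈ F.W → w ∈ Subgroup.center ↥(F.S : Subgroup G) :=
    fun w hw => Subgroup.mem_center_iff.2 fun g => Subtype.ext (hS2 _ hw g).symm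
  have key : ∀ ψ : IrrCharacter ↥(F.S : Subgroup G), ∃ n : ℕ,
      (ψ : ↥(F.S : Subgroup G) → ℂ) 1 - (ψ : ↥(F.S : Subgroup G) → ℂ) zS +
        (ψ : ↥(F.S : Subgroup G) → ℂ) yS - (ψ : ↥(F.S : Subgroup G) → ℂ) (zS * yS) = 16 * (n : ℂ) := by
    intro ψ
    obtain ⟨σ, hσ, -, h1⟩ := apply_central_sign ψ (hcen zS F.z_mem_W) (Subtype.ext F.z_sq)
    obtain ⟨τ, hτ, -, h2⟩ := apply_central_sign ψ (hcen yS F.z2_mem) (Subtype.ext (F.ufour.sq_one F.z2_mem))
    have e1 := h1 1
    have e2 := h2 1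
    have e3 := h1 yS
    rw [mul_one] at e1 e2
    rcases hσ with rfl | rfl
    · exact ⟨0, by rw [e3, e1]; push_cast; ring⟩
    rcases hτ with rfl | rfl
    swap
    · exact ⟨0, by rw [e3, e1, e2]; push_cast; ring⟩
    refine ⟨1, ?_⟩
    rw [e3, e1, e2]
    set x := deg (ψ : ↥(F.S : Subgroup G) → ℂ) with hx
    have hx' : (ψ : ↥(F.S : Subgroup G) → ℂ) 1 = (x : ℂ) := irr_apply_one_eq_deg ψ
    have hn := classInner_irr_self ψ
    rw [classInner_def, inv_mul_eq_one₀ (Nat.cast_ne_zero.2 Nat.card_pos.ne'), F.ufour.card_all,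
      ← Finset.sum_filter_add_sum_filter_not Finset.univ (fun s : ↥(F.S : Subgroup G) => (s : G) ∈ F.W),
      Finset.sum_congr rfl (g := fun _ => (x : ℂ) * (x : ℂ)) fun s hs => ?_, Finset.sum_const,
      Finset.sum_eq_zero (s := Finset.univ.filter fun s : ↥(F.S : Subgroup G) => ¬ (s : G) ∈ F.W) fun s hs => ?_,
      add_zero, nsmul_eq_mul,
      show (Finset.univ.filter fun s : ↥(F.S : Subgroup G) => (s : G) ∈ F.W).card = 4 by
        rw [← Fintype.card_subtype, ← Nat.card_eq_fintype_card, ← show Nat.card F.W = 4 from F.ufour.card_cen]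
        exact Nat.card_congr
          { toFun := fun s => ⟨s.1, s.2⟩
            invFun := fun w => ⟨⟨w, w.2.1⟩, w.2⟩
            left_inv := fun _ => rfl
            right_inv := fun _ => rfl }] at hn
    · have h16 : x * x = 16 := by
        have h : ((64 : ℕ) : ℂ) = ((4 * (x * x) : ℕ) : ℂ) := by rw [hn]; push_cast; ring
        have := Nat.cast_injective h
        omega
      have h4 : x = 4 := by nlinarith
      rw [hx', h4]
      push_cast
      ring
    · obtain ⟨t, ht, hts⟩ := F.ufour.exists_comm s.2 (Finset.mem_filter.1 hs).2 F.z_mem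
      have h := isClassFunction_irr ψ s ⟨t, ht⟩
      rw [show (⟨t, ht⟩ : ↥(F.S : Subgroup G)) * s * ⟨t, ht⟩⁻¹ = zS * s from Subtype.ext hts, h1 s] at h
      push_cast at h
      rw [show (ψ : ↥(F.S : Subgroup G) → ℂ) s = 0 by linear_combination (-1 / 2 : ℂ) * h, zero_mul]
    · obtain ⟨ρ, hρ, -, hρc⟩ := apply_central_sign ψ (hcen s (Finset.mem_filter.1 hs).2)
        (Subtype.ext (F.ufour.sq_one (Finset.mem_filter.1 hs).2))
      have h := hρc 1
      rw [mul_one] at h
      rw [h, hx', map_mul, map_intCast, Complex.conj_natCast]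
      rcases hρ with rfl | rfl <;> push_cast <;> ring
  choose n hn using key
  refine ⟨((∑ ψ, m ψ * n ψ : ℕ) : ℤ), ?_⟩
  apply Int.cast_injective (α := ℂ)
  push_cast
  rw [Finset.mul_sum, Finset.sum_congr rfl (g := fun ψ : IrrCharacter ↥(F.S : Subgroup G) => (m ψ : ℂ) *
    ((ψ : ↥(F.S : Subgroup G) → ℂ) 1 - (ψ : ↥(F.S : Subgroup G) → ℂ) zS +
      (ψ : ↥(F.S : Subgroup G) → ℂ) yS - (ψ : ↥(F.S : Subgroup G) → ℂ) (zS * yS))) fun ψ _ => by
    rw [hn ψ]; ring]
  simp only [mul_sub, mul_add, Finset.sum_sub_distrib, Finset.sum_add_distrib, ← hval]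
  rw [show ((zS * yS : ↥(F.S : Subgroup G)) : G) = F.z * F.z2 from rfl,
    show ((zS : ↥(F.S : Subgroup G)) : G) = F.z from rfl, show ((yS : ↥(F.S : Subgroup G)) : G) = F.z2 from rfl,
    P.apply_involution F.z2_mem F.z2_ne_one,
    P.apply_involution (mul_mem F.z_mem_W F.z2_mem) F.z_mul_z2_ne, hd, OneMemClass.coe_one, irr_apply_one_eq_deg]
  ring

end Frame.Pre

namespace Frame.One

variable {F : Frame G} (E : F.One)
include E

variable {M : Ideal AlgInt} [Fintype G]

theorem card_C : Nat.card F.C = 64 * Nat.card F.O := by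
  rw [← F.ufour.card_all, ← Nat.card_prod]
  symm
  refine Nat.card_eq_of_bijective (fun q : ↥(F.S : Subgroup G) × F.O =>
    (⟨(q.1 : G) * q.2, mul_mem (F.sylow_le_C q.1.2) (F.O_le_C q.2.2)⟩ : F.C)) ⟨?_, ?_⟩
  · rintro ⟨s, u⟩ ⟨t, v⟩ h
    have h1 : (s : G) * u = (t : G) * v := congrArg Subtype.val h
    have hst : (s : G) = t := by
      refine E.pre.S_eq s.2 t.2 (E.pre.O_le_K ?_)
      rw [show (t : G)⁻¹ * s = v * (u : G)⁻¹ by rw [eq_mul_inv_iff_mul_eq, mul_assoc, h1, inv_mul_cancel_left]]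
      exact mul_mem v.2 (inv_mem u.2)
    rw [hst, mul_right_inj] at h1
    exact Prod.ext (Subtype.ext hst) (Subtype.ext h1)
  · rintro ⟨c, hc⟩
    obtain ⟨s, hs, k, u, hu, rfl⟩ := E.pre.cover' hc
    refine ⟨(⟨s, hs⟩, ⟨u, hu⟩), Subtype.ext ?_⟩
    show s * u = s * (1 : G) ^ k * u
    rw [one_pow, mul_one]

theorem column_z (hM : IsPModular 2 M) :
    ∑ χ ∈ blockZero (G := G) M, (χ : G → ℂ) F.z * conj ((χ : G → ℂ) F.z) = 64 := by
  classical
  letI := Fintype.ofFinite F.C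
  have h := column_count (H := F.C) (N := F.O) hM E.pre.z_pow E.pre.C_eq F.O_le_C E.pre.C_norm_O E.pre.not_dvd_O
    (E.pre.full_z hM) (y := 1) (w := 1) (by simp) (by simp)
  simp only [OneMemClass.coe_one, inv_one, one_mul, mul_one, mul_inv_cancel, one_mem, Finset.filter_true,
    Finset.card_univ, ← Nat.card_eq_fintype_card, E.card_C, Nat.cast_mul] at h
  rw [mul_div_assoc, div_self (Nat.cast_ne_zero.2 Nat.card_pos.ne'), mul_one] at h
  convert h using 2 <;> simp [blockZero]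

/-- Piece L2 for `E = 1`. -/
theorem exists_rows [IsSimpleGroup G] (hgood : F.Good) (hM : IsPModular 2 M) :
    ∃ (ι : Type u) (_ : Fintype ι), Nonempty (RowsOne ι) := by
  classical
  letI := Fintype.ofFinite ↥(F.S : Subgroup G)
  obtain ⟨a, ha, hinj, -⟩ := E.exists_reps
  set B := (blockZero (G := G) M).erase (principal G) with hB
  choose d hd using fun χ : IrrCharacter G => E.pre.exists_int_z χ
  choose p hp using fun (χ : IrrCharacter G) (j : Fin 5) =>
    E.pre.exists_int_quad (ha j).1 (ha j).2.1 (ha j).2.2 χ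
  have hmem : ∀ i : B, (i : IrrCharacter G) ∈ principalBlock M G := fun i =>
    mem_blockZero.1 (Finset.mem_of_mem_erase i.2)
  have hne : ∀ i : B, (i : IrrCharacter G) ≠ principal G := fun i => Finset.ne_of_mem_erase i.2
  have hsum : ∀ f : IrrCharacter G → ℂ,
      ∑ i : B, f i = ∑ χ ∈ blockZero (G := G) M, f χ - f (principal G) := fun f => by
    rw [Finset.sum_coe_sort B f, hB,
      ← Finset.add_sum_erase _ f (mem_blockZero.2 (mem_blockOf_self hM (principal G)))]
    ring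
  have h1v : ∀ g, ((principal G : IrrCharacter G) : G → ℂ) g = 1 := fun g => rfl
  have hx : ∀ χ : IrrCharacter G, (χ : G → ℂ) 1 = ((deg (χ : G → ℂ) : ℕ) : ℂ) := irr_apply_one_eq_deg
  have hoff : ∀ (x y : G), (∃ k : ℕ, orderOf x = 2 ^ k) → (∃ k : ℕ, orderOf y = 2 ^ k) → ¬ IsConj x y →
      ∑ χ ∈ blockZero (G := G) M, (χ : G → ℂ) x * conj ((χ : G → ℂ) y) = 0 := by
    intro x y hx hy hxy
    rw [Finset.sum_congr rfl (g := fun χ : IrrCharacter G => (χ : G → ℂ) x * (χ : G → ℂ) y⁻¹) fun χ _ => by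
      rw [IsCharacter.conj_inv (isCharacter_of_irr χ.2)]]
    have hB : IsPBlock M (principalBlock M G) := isPBlock_blockOf (principal G)
    have h := block_orthogonality hM hB (isPPart_self Nat.prime_two hx)
      (isPPart_self Nat.prime_two hy) hxy
    convert h using 2
    simp [blockZero]
  -- congruence of the values
  have hline : ∀ (χ : IrrCharacter G) (j : Fin 5), (16 : ℤ) ∣ (deg (χ : G → ℂ) : ℤ) + 3 * d χ + 12 * p χ j := by
    intro χ j
    obtain ⟨L, hL, hLsum⟩ := E.exists_line (ha j).1 (ha j).2.1 (ha j).2.2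
    letI := Fintype.ofFinite L
    obtain ⟨n, hn⟩ := IsCharacter.exists_mult (IsCharacter.comp_hom (isCharacter_of_irr χ.2)
      ((F.S : Subgroup G).subtype.comp L.subtype)) (isIrrCharacter_linear (1 : ↥L →* ℂˣ))
    rw [classInner_def, hL] at hn
    simp only [MonoidHom.one_apply, Units.val_one, map_one, mul_one, MonoidHom.comp_apply,
      Subgroup.coe_subtype] at hn
    rw [hLsum (χ : G → ℂ) (fun x y h => by
      obtain ⟨g, rfl⟩ := isConj_iff.1 h; exact (isClassFunction_irr χ x g).symm), hx, hd, hp χ j] at hn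
    refine ⟨n, Int.cast_injective (α := ℂ) ?_⟩
    push_cast at hn ⊢
    linear_combination (16 : ℂ) * hn
  have hcong : ∀ (χ : IrrCharacter G) (j : Fin 5), (4 : ℤ) ∣ d χ - p χ j := by
    intro χ j
    have h1 := E.pre.dvd_sub_z (hd χ)
    have h2 := hline χ j
    omega
  refine ⟨B, inferInstance, ⟨{
    x := fun i => deg ((i : IrrCharacter G) : G → ℂ)
    d := fun i => d i
    p := fun i j => p i j
    orth_pp := ?_
    orth_dp := ?_
    orth_dd := ?_
    count := ?_
    deg := ?_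
    congr := fun i => E.pre.dvd_sub_z (hd i)
    lin := ?_
    triv := ?_ }⟩⟩
  · intro j k
    apply Int.cast_injective (α := ℂ)
    push_cast
    rw [hsum fun χ => (p χ j : ℂ) * (p χ k : ℂ), ← hp, ← hp, h1v, h1v,
      Finset.sum_congr rfl (g := fun χ : IrrCharacter G => (χ : G → ℂ) (a j) * conj ((χ : G → ℂ) (a k)))
        fun χ _ => by rw [hp, hp, map_intCast]]
    split_ifs with h
    · subst h
      rw [E.pre.column_aa hM (ha j).1 (ha j).2.1 (ha j).2.2]; norm_num
    · rw [hoff _ _ (E.pre.a_pow (ha j).1) (E.pre.a_pow (ha k).1) fun hc => h (hinj j k hc)]; norm_num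
  · intro j
    apply Int.cast_injective (α := ℂ)
    push_cast
    rw [hsum fun χ => (d χ : ℂ) * (p χ j : ℂ), ← hp, ← hd, h1v, h1v,
      Finset.sum_congr rfl (g := fun χ : IrrCharacter G => (χ : G → ℂ) F.z * conj ((χ : G → ℂ) (a j)))
        fun χ _ => by rw [hp, hd, map_intCast],
      hoff _ _ E.pre.z_pow (E.pre.a_pow (ha j).1) (E.pre.quad_not_conj_z (ha j).1 (ha j).2.1 (ha j).2.2)]
    norm_num
  · apply Int.cast_injective (α := ℂ)
    push_cast
    rw [hsum fun χ => (d χ : ℂ) * (d χ : ℂ), ← hd, h1v,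
      Finset.sum_congr rfl (g := fun χ : IrrCharacter G => (χ : G → ℂ) F.z * conj ((χ : G → ℂ) F.z))
        fun χ _ => by rw [hd, map_intCast],
      E.column_z hM]
    norm_num
  · intro j
    apply Rat.cast_injective (α := ℂ)
    push_cast
    rw [hsum fun χ => (d χ : ℂ) * (d χ : ℂ) * (p χ j : ℂ) / (deg (χ : G → ℂ) : ℂ), ← hd, ← hp, ← hx, h1v, h1v,
      Finset.sum_congr rfl (g := fun χ : IrrCharacter G =>
        (χ : G → ℂ) F.z * (χ : G → ℂ) F.z * (χ : G → ℂ) (a j) / (χ : G → ℂ) 1) fun χ _ => by rw [hp, hd, hx],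
      E.pre.count_quad hM (ha j).1 (ha j).2.1 (ha j).2.2]
    norm_num [h1v]
  · intro i
    obtain ⟨n, J, hJ, h⟩ := E.pre.exists_jump hgood hM (hmem i) (hne i)
    rw [hx] at h
    have h' : deg ((i : IrrCharacter G) : G → ℂ) = n + 64 * J := Nat.cast_injective (R := ℂ) (by push_cast; exact h)
    omega
  · intro i j
    have h := fun k => hcong (i : IrrCharacter G) k
    rw [Fin.sum_univ_five]
    have := h 0; have := h 1; have := h 2; have := h 3; have := h 4; have := h j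
    omega
  · intro i
    have h := fun k => hcong (i : IrrCharacter G) k
    rw [Fin.sum_univ_five]
    have := h 0; have := h 1; have := h 2; have := h 3; have := h 4
    omega

/-- No configuration with `E = 1`. -/
theorem absurd_of_spec [IsSimpleGroup G] (hgood : F.Good) (hone : OneSpec.{u}) : False := by
  obtain ⟨M, hM⟩ := exists_isPModular Nat.prime_two
  obtain ⟨ι, inst, ⟨R⟩⟩ := E.exists_rows hgood hM
  exact @hone ι inst R

end Frame.One

end Cfsg.Lib.Lyons
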